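import Mathlib
import Cfsg.Agent.Lib.RankOne.Basic

/-!
# Subgroups of the form `U D₀ ∪ U D₀ t U` in the rank-one set-up
-/

set_option autoImplicit false

open Cfsg

namespace CfsgLib.RankOne.Small

open MulAction

variable {G Ω : Type*} [Group G] [Finite G] [MulAction G Ω] {a : Ω} {t : G} {Q : Subgroup G}

/-- A subgroup `U` of `Q`, a subgroup `D₀` of the two-point stabiliser normalising `U` and normalised
by `t`, and the condition `t u t ∈ U D₀ t U` on the nontrivial elements of `U`. -/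
structure Frame (a : Ω) (t : G) (Q U D₀ : Subgroup G) : Prop where
  setup : IsRankOneSetup G Ω a t Q
  le : U ≤ Q
  le_two : D₀ ≤ two G a t
  norm : ∀ d ∈ D₀, ∀ u ∈ U, d * u * d⁻¹ ∈ U
  swap : ∀ d ∈ D₀, t * d * t ∈ D₀
  closed : ∀ u ∈ U, u ≠ 1 → ∃ f ∈ U, ∃ d ∈ D₀, ∃ g ∈ U, t * u * t = f * d * t * g

variable {U D₀ : Subgroup G} (F : Frame a t Q U D₀)

/-- The subgroup generated by `U`, `D₀` and `t`. -/
def span (t : G) (U D₀ : Subgroup G) : Subgroup G :=
  Subgroup.closure ((U : Set G) ∪ (D₀ : Set G) ∪ {t})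

omit [Finite G] in
theorem mem_span_t : t ∈ span t U D₀ := Subgroup.subset_closure (Or.inr rfl)

omit [Finite G] in
theorem left_le_span : U ≤ span t U D₀ := fun _ h => Subgroup.subset_closure (Or.inl (Or.inl h))

omit [Finite G] in
theorem right_le_span : D₀ ≤ span t U D₀ := fun _ h => Subgroup.subset_closure (Or.inl (Or.inr h))

include F

omit [Finite G] in
theorem Frame.mem_span {g : G} (hg : g ∈ span t U D₀) :
    (∃ u ∈ U, ∃ d ∈ D₀, g = u * d) ∨ (∃ u ∈ U, ∃ d ∈ D₀, ∃ v ∈ U, g = u * d * t * v) := by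
  have htt : t * t = 1 := F.setup.mul_self
  have hti : t⁻¹ = t := t_inv F.setup
  let P : G → Prop := fun g =>
    (∃ u ∈ U, ∃ d ∈ D₀, g = u * d) ∨ (∃ u ∈ U, ∃ d ∈ D₀, ∃ v ∈ U, g = u * d * t * v)
  have hU : ∀ x ∈ U, ∀ g, P g → P (x * g) := by
    rintro x hx g (⟨u, hu, d, hd, rfl⟩ | ⟨u, hu, d, hd, v, hv, rfl⟩)
    · exact Or.inl ⟨x * u, mul_mem hx hu, d, hd, by group⟩
    · exact Or.inr ⟨x * u, mul_mem hx hu, d, hd, v, hv, by group⟩
  have hD : ∀ x ∈ D₀, ∀ g, P g → P (x * g) := by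
    rintro x hx g (⟨u, hu, d, hd, rfl⟩ | ⟨u, hu, d, hd, v, hv, rfl⟩)
    · exact Or.inl ⟨x * u * x⁻¹, F.norm x hx u hu, x * d, mul_mem hx hd, by group⟩
    · exact Or.inr ⟨x * u * x⁻¹, F.norm x hx u hu, x * d, mul_mem hx hd, v, hv, by group⟩
  have hT : ∀ g, P g → P (t * g) := by
    rintro g (⟨u, hu, d, hd, rfl⟩ | ⟨u, hu, d, hd, v, hv, rfl⟩)
    · refine Or.inr ⟨1, one_mem _, t * d * t, F.swap d hd, d⁻¹ * u * d⁻¹⁻¹,
        F.norm _ (inv_mem hd) u hu, ?_⟩
      calc t * (u * d) = t * d * 1 * (d⁻¹ * u * d⁻¹⁻¹) := by group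
        _ = t * d * (t * t) * (d⁻¹ * u * d⁻¹⁻¹) := by rw [htt]
        _ = _ := by group
    · by_cases hu1 : u = 1
      · subst hu1
        refine Or.inl ⟨(t * d * t) * v * (t * d * t)⁻¹, F.norm _ (F.swap d hd) v hv, t * d * t,
          F.swap d hd, ?_⟩
        group
      · obtain ⟨f, hf, e, he, g, hg, heq⟩ := F.closed u hu hu1
        refine Or.inr ⟨f, hf, e * d, mul_mem he hd,
          (t * d * t)⁻¹ * g * (t * d * t)⁻¹⁻¹ * v, mul_mem (F.norm _ (inv_mem (F.swap d hd)) g hg) hv, ?_⟩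
        calc t * (u * d * t * v) = t * u * 1 * d * t * v := by group
          _ = t * u * (t * t) * d * t * v := by rw [htt]
          _ = (t * u * t) * (t * d * t) * v := by group
          _ = f * e * t * g * (t * d * t) * v := by rw [heq]
          _ = f * e * (t * (t * d * t)) * ((t * d * t)⁻¹ * g * (t * d * t)⁻¹⁻¹ * v) := by group
          _ = f * e * (d * t) * ((t * d * t)⁻¹ * g * (t * d * t)⁻¹⁻¹ * v) := by
            rw [show t * (t * d * t) = (t * t) * (d * t) by group, htt, one_mul]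
          _ = _ := by group
  refine Subgroup.closure_induction_left (p := fun g _ => P g) ?_ ?_ ?_ hg
  · exact Or.inl ⟨1, one_mem _, 1, one_mem _, (one_mul 1).symm⟩
  · rintro x ((hx | hx) | hx) y - hy
    · exact hU x hx y hy
    · exact hD x hx y hy
    · rw [Set.mem_singleton_iff.mp hx]; exact hT y hy
  · rintro x ((hx | hx) | hx) y - hy
    · exact hU x⁻¹ (inv_mem hx) y hy
    · exact hD x⁻¹ (inv_mem hx) y hy
    · rw [Set.mem_singleton_iff.mp hx, hti]; exact hT y hy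

omit [Finite G] in
theorem Frame.not_mem_stab {u d v : G} (hu : u ∈ U) (hd : d ∈ D₀) (hv : v ∈ U) :
    u * d * t * v ∉ stabilizer G a := fun h => F.setup.not_mem (by
  have := mul_mem (mul_mem (inv_mem (mul_mem (F.setup.le (F.le hu)) (two_le F.setup (F.le_two hd)))) h)
    (inv_mem (F.setup.le (F.le hv)))
  simpa [mul_assoc] using this)

omit [Finite G] in
/-- The elements of the subgroup fixing `a` form `U D₀`. -/
theorem Frame.mem_span_stab {g : G} (hg : g ∈ span t U D₀) (ha : g ∈ stabilizer G a) :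
    ∃ u ∈ U, ∃ d ∈ D₀, g = u * d := by
  rcases F.mem_span hg with h | ⟨u, hu, d, hd, v, hv, rfl⟩
  · exact h
  · exact absurd ha (F.not_mem_stab hu hd hv)

theorem Frame.card_span :
    Nat.card (span t U D₀) = Nat.card U * Nat.card D₀ * (Nat.card U + 1) := by
  have hS := F.setup
  let φ : (U × D₀) ⊕ ((U × D₀) × U) → span t U D₀ := fun p => p.elim
    (fun q => ⟨q.1 * q.2, mul_mem (left_le_span q.1.2) (right_le_span q.2.2)⟩)
    (fun q => ⟨q.1.1 * q.1.2 * t * q.2,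
      mul_mem (mul_mem (mul_mem (left_le_span q.1.1.2) (right_le_span q.1.2.2)) mem_span_t)
        (left_le_span q.2.2)⟩)
  have hφ : Function.Bijective φ := by
    constructor
    · rintro (p | p) (q | q) h <;> have h' := congrArg Subtype.val h
      · obtain ⟨h1, h2⟩ := qd_inj hS (F.le p.1.2) (F.le_two p.2.2) (F.le q.1.2) (F.le_two q.2.2) h'
        exact congrArg Sum.inl (Prod.ext (Subtype.ext h1) (Subtype.ext h2))
      · change (p.1 : G) * p.2 = q.1.1 * q.1.2 * t * q.2 at h'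
        exact absurd (h' ▸ (mul_mem (hS.le (F.le p.1.2)) (two_le hS (F.le_two p.2.2)) :
          (p.1 : G) * p.2 ∈ stabilizer G a)) (F.not_mem_stab q.1.1.2 q.1.2.2 q.2.2)
      · change (p.1.1 : G) * p.1.2 * t * p.2 = q.1 * q.2 at h'
        exact absurd (h'.symm ▸ (mul_mem (hS.le (F.le q.1.2)) (two_le hS (F.le_two q.2.2)) :
          (q.1 : G) * q.2 ∈ stabilizer G a)) (F.not_mem_stab p.1.1.2 p.1.2.2 p.2.2)
      · obtain ⟨h1, h2, h3⟩ := canonical_unique hS (F.le p.1.1.2) (F.le_two p.1.2.2) (F.le p.2.2)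
          (F.le q.1.1.2) (F.le_two q.1.2.2) (F.le q.2.2) h'
        exact congrArg Sum.inr (Prod.ext (Prod.ext (Subtype.ext h1) (Subtype.ext h2)) (Subtype.ext h3))
    · rintro ⟨g, hg⟩
      rcases F.mem_span hg with ⟨u, hu, d, hd, rfl⟩ | ⟨u, hu, d, hd, v, hv, rfl⟩
      · exact ⟨Sum.inl (⟨u, hu⟩, ⟨d, hd⟩), rfl⟩
      · exact ⟨Sum.inr ((⟨u, hu⟩, ⟨d, hd⟩), ⟨v, hv⟩), rfl⟩
  rw [← Nat.card_congr (Equiv.ofBijective φ hφ), Nat.card_sum, Nat.card_prod, Nat.card_prod,
    Nat.card_prod]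
  ring

end CfsgLib.RankOne.Small
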