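import Mathlib
import Cfsg.Agent.Lib.RankOne.Small.Frame
import Cfsg.Agent.Lib.RankOne.Setup
import Cfsg.Agent.Lib.RankOne.Four
import Cfsg.Agent.S1128
import Cfsg.Agent.S1131

/-!
# Small `Q`: `Q K ∪ Q K t Q` is a subgroup

Let `q - 1` be the number of involutions at `a` and suppose `|Q| = q` or `|Q| = q²`.  With
`t s₀ t = r⁻¹ t r` every element of `Q` outside `Z = {s ∈ G_a | s² = 1}` is conjugate under `K` to
an element of `r Z`, and `t (r z) t ∈ Q K t Q` because the `D/K`-part of `t (r z) t` is equal to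
its own inverse and `D` has odd order.
-/

set_option autoImplicit false

open Cfsg

namespace CfsgLib.RankOne.Small

open MulAction

variable {G Ω : Type*} [Group G] [Finite G] [MulAction G Ω] [FaithfulSMul G Ω] {a : Ω} {t : G}
  {Q : Subgroup G} (hS : IsRankOneSetup G Ω a t Q)
  (h2 : ∃ x y : G, x ≠ 1 ∧ y ≠ 1 ∧ x ≠ y ∧ x * x = 1 ∧ y * y = 1 ∧ x * y = y * x)

include hS h2

/-- The data used below: `Z` is the group of involutions at `a` and `K` the inverted elements. -/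
structure Data (a : Ω) (t : G) (Q Z K : Subgroup G) : Prop where
  setup : IsRankOneSetup G Ω a t Q
  mem_Z : ∀ x, x ∈ Z ↔ x ∈ stabilizer G a ∧ x * x = 1
  central : ∀ z ∈ Z, z ∈ Q ∧ ∀ x ∈ Q, z * x = x * z
  mem_K : ∀ x, x ∈ K ↔ x ∈ invertedBy (two G a t) t
  normK : ∀ d ∈ two G a t, ∀ k ∈ K, d * k * d⁻¹ ∈ K
  cyclicK : IsCyclic K
  fpf : ∀ k ∈ K, k ≠ 1 → ∀ x ∈ Q, k * x = x * k → x = 1
  card_Z : Nat.card Z = Nat.card K + 1
  two_le_K : 2 ≤ Nat.card K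

theorem exists_data : ∃ Z K : Subgroup G, Data a t Q Z K := by
  classical
  obtain ⟨K, hK, hKc, hKn⟩ := Cfsg.Agent.S1131.result hS h2
  have hZm : ∀ x : G, x ∈ stabilizer G a → x * x = 1 → x ∈ Q ∧ ∀ y ∈ Q, x * y = y * x := by
    intro x hx hxx
    by_cases h1 : x = 1
    · subst h1; exact ⟨one_mem _, fun y _ => by simp⟩
    · exact central_invol hS h2 ⟨hx, h1, hxx⟩
  let Z : Subgroup G :=
    { carrier := {x | x ∈ stabilizer G a ∧ x * x = 1}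
      one_mem' := ⟨one_mem _, one_mul 1⟩
      inv_mem' := fun {x} hx => ⟨inv_mem hx.1, by rw [inv_eq_of_mul_eq_one_right hx.2]; exact hx.2⟩
      mul_mem' := fun {x y} hx hy => ⟨mul_mem hx.1 hy.1, by
        calc x * y * (x * y) = x * (y * x) * y := by group
          _ = x * x * (y * y) := by rw [← (hZm x hx.1 hx.2).2 y (hZm y hy.1 hy.2).1]; group
          _ = 1 := by rw [hx.2, hy.2, one_mul]⟩ }
  have hKmem : ∀ x, x ∈ K ↔ x ∈ invertedBy (two G a t) t := fun x => by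
    rw [← SetLike.mem_coe, hK]
  have hcardK : Nat.card K = Nat.card (involutionsIn (stabilizer G a : Set G)) := by
    rw [← card_inverted hS]
    exact Nat.card_congr (Equiv.subtypeEquivRight hKmem)
  have hZI : (Z : Set G) = insert 1 (involutionsIn (stabilizer G a : Set G)) := by
    ext x
    constructor
    · rintro ⟨hx, hxx⟩
      by_cases h1 : x = 1
      · exact Or.inl h1
      · exact Or.inr ⟨hx, h1, hxx⟩
    · rintro (rfl | ⟨hx, -, hxx⟩)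
      · exact one_mem Z
      · exact ⟨hx, hxx⟩
  have hcardZ : Nat.card Z = Nat.card K + 1 := by
    have : Nat.card Z = (Z : Set G).ncard := rfl
    rw [this, hZI, Set.ncard_insert_of_notMem (fun h => h.2.1 rfl) (Set.toFinite _), hcardK]
    rfl
  obtain ⟨s, s', hs, hs', hne⟩ := exists_two_invol hS h2
  refine ⟨Z, K, hS, fun x => Iff.rfl, fun z hz => hZm z hz.1 hz.2, hKmem, fun d hd k hk => hKn d hd k hk,
    hKc, fun k hk hk1 x hx hc => ?_, hcardZ, ?_⟩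
  · rw [← Subgroup.mem_bot, ← Cfsg.Agent.S1128.result hS h2 k ((hKmem k).mp hk) hk1]
    exact ⟨hx, Subgroup.mem_centralizer_singleton_iff.mpr hc.symm⟩
  · rw [hcardK]
    have : ({s, s'} : Set G).ncard ≤ (involutionsIn (stabilizer G a : Set G)).ncard :=
      Set.ncard_le_ncard (fun x hx => by rcases hx with rfl | rfl <;> assumption) (Set.toFinite _)
    rw [Set.ncard_pair hne] at this
    exact this

omit hS h2 [FaithfulSMul G Ω] in
theorem Data.le_two {Z K : Subgroup G} (A : Data a t Q Z K) : K ≤ two G a t :=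
  fun _ h => ((A.mem_K _).mp h).1

end CfsgLib.RankOne.Small

namespace CfsgLib.RankOne.Small.Data

open MulAction

variable {G Ω : Type*} [Group G] [Finite G] [MulAction G Ω] [FaithfulSMul G Ω] {a : Ω} {t : G}
  {Q Z K : Subgroup G} (A : Data a t Q Z K)

include A

omit [Finite G] [FaithfulSMul G Ω] in
theorem Z_le_Q : Z ≤ Q := fun _ h => (A.central _ h).1

omit [Finite G] [FaithfulSMul G Ω] in
theorem Z_sq {z : G} (hz : z ∈ Z) : z * z = 1 := ((A.mem_Z z).mp hz).2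

omit [Finite G] [FaithfulSMul G Ω] in
theorem t_mul {k : G} (hk : k ∈ K) : t * k = k⁻¹ * t := t_mul_inverted A.setup ((A.mem_K k).mp hk)

omit [Finite G] [FaithfulSMul G Ω] in
theorem t_mul' {k : G} (hk : k ∈ K) : t * k⁻¹ = k * t := by
  simpa using A.t_mul (inv_mem hk)

omit [Finite G] [FaithfulSMul G Ω] in
theorem conj_Q {d x : G} (hd : d ∈ two G a t) (hx : x ∈ Q) : d * x * d⁻¹ ∈ Q :=
  A.setup.conj_mem d hd.1 x hx

omit [Finite G] [FaithfulSMul G Ω] in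
theorem conj_Z {d z : G} (hd : d ∈ two G a t) (hz : z ∈ Z) : d * z * d⁻¹ ∈ Z :=
  (A.mem_Z _).mpr ⟨mul_mem (mul_mem hd.1 ((A.mem_Z z).mp hz).1) (inv_mem hd.1), by
    calc d * z * d⁻¹ * (d * z * d⁻¹) = d * (z * z) * d⁻¹ := by group
      _ = 1 := by rw [A.Z_sq hz]; group⟩

omit [Finite G] [FaithfulSMul G Ω] in
/-- An element of order two in `Q` lies in `Z`. -/
theorem mem_Z_of_Q {x : G} (hx : x ∈ Q) (h : x * x = 1) : x ∈ Z :=
  (A.mem_Z x).mpr ⟨A.setup.le hx, h⟩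

theorem isPGroup_Z : IsPGroup 2 Z := fun z =>
  ⟨1, Subtype.ext (by simpa [pow_two] using A.Z_sq z.2)⟩

omit [FaithfulSMul G Ω] in
/-- Elements of `Q` outside `Z` are permuted semiregularly modulo `Z` by `K`. -/
theorem eq_one_of_conj_coset {m x w : G} (hm : m ∈ K) (hx : x ∈ Q) (hxZ : x ∉ Z) (hw : w ∈ Z)
    (h : m * x * m⁻¹ = x * w) : m = 1 := by
  by_contra hm1
  have hsq : m * (x * x) * m⁻¹ = x * x := by
    calc m * (x * x) * m⁻¹ = (m * x * m⁻¹) * (m * x * m⁻¹) := by group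
      _ = x * (w * x) * w := by rw [h]; group
      _ = x * x * (w * w) := by rw [(A.central w hw).2 x hx]; group
      _ = x * x := by rw [A.Z_sq hw, mul_one]
  refine hxZ (A.mem_Z_of_Q hx (A.fpf m hm hm1 _ (mul_mem hx hx) ?_))
  calc m * (x * x) = m * (x * x) * m⁻¹ * m := by group
    _ = x * x * m := by rw [hsq]

omit [FaithfulSMul G Ω] in
/-- If `|Q| = |Z|²`, `K` is transitive on the nontrivial cosets of `Z` in `Q`. -/
theorem exists_conj_coset (hcard : Nat.card Q = Nat.card Z ^ 2) {x y : G} (hx : x ∈ Q) (hxZ : x ∉ Z)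
    (hy : y ∈ Q) (hyZ : y ∉ Z) : ∃ k ∈ K, ∃ z ∈ Z, y = k * x * k⁻¹ * z := by
  have hKD := A.le_two
  let φ : K × Z → ↥((Q : Set G) \ Z) := fun p => ⟨p.1 * x * (p.1 : G)⁻¹ * p.2,
    mul_mem (A.conj_Q (hKD p.1.2) hx) (A.Z_le_Q p.2.2), fun h => hxZ (by
      have := A.conj_Z (inv_mem (hKD p.1.2)) (mul_mem h (inv_mem p.2.2))
      simpa [mul_assoc] using this)⟩
  have hinj : Function.Injective φ := by
    rintro ⟨⟨k, hk⟩, ⟨z, hz⟩⟩ ⟨⟨k', hk'⟩, ⟨z', hz'⟩⟩ h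
    have h' : k * x * k⁻¹ * z = k' * x * k'⁻¹ * z' := congrArg Subtype.val h
    have hmem : k'⁻¹ * (z' * z⁻¹) * k'⁻¹⁻¹ ∈ Z :=
      A.conj_Z (inv_mem (hKD hk')) (mul_mem hz' (inv_mem hz))
    have h1 : k'⁻¹ * k * x * (k'⁻¹ * k)⁻¹ = x * (k'⁻¹ * (z' * z⁻¹) * k'⁻¹⁻¹) := by
      calc k'⁻¹ * k * x * (k'⁻¹ * k)⁻¹ = k'⁻¹ * (k * x * k⁻¹ * z) * z⁻¹ * k' := by group
        _ = _ := by rw [h']; group
    have hkk := A.eq_one_of_conj_coset (mul_mem (inv_mem hk') hk) hx hxZ hmem h1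
    have hkk' : k = k' := (inv_mul_eq_one.mp hkk).symm
    subst hkk'
    simp only [mul_right_inj] at h'
    subst h'
    rfl
  have hc : Nat.card (K × Z) = Nat.card ↥((Q : Set G) \ Z) := by
    rw [Nat.card_prod, Nat.card_coe_set_eq, Set.ncard_diff (SetLike.coe_subset_coe.mpr A.Z_le_Q)]
    have e1 : (Q : Set G).ncard = Nat.card Q := rfl
    have e2 : (Z : Set G).ncard = Nat.card Z := rfl
    rw [e1, e2, hcard, A.card_Z, pow_two, add_mul, one_mul, Nat.add_sub_cancel]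
  obtain ⟨⟨k, z⟩, he⟩ := ((Nat.bijective_iff_injective_and_card φ).mpr ⟨hinj, hc⟩).2 ⟨y, hy, hyZ⟩
  exact ⟨k, k.2, z, z.2, (congrArg Subtype.val he).symm⟩

omit [FaithfulSMul G Ω] in
/-- An element of `D` which is congruent modulo `K` to its image under `x ↦ t x⁻¹ t` lies in `K`. -/
theorem mem_K_of_eq {d l : G} (hd : d ∈ two G a t) (hl : l ∈ K)
    (h : d = l * (t * d⁻¹ * t) * l⁻¹) : d ∈ K := by
  have hS := A.setup
  obtain ⟨⟨y, w⟩, ⟨hy, hw, rfl⟩, -⟩ :=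
    split_odd hS.mul_self hS.odd_card (fun x hx => conj_t_mem hS hx) hd
  obtain ⟨hyD, hyt⟩ := Subgroup.mem_inf.mp hy
  have hyt' : y * t = t * y := Subgroup.mem_centralizer_singleton_iff.mp hyt
  have hwK : w ∈ K := (A.mem_K w).mpr hw
  have hyi : y⁻¹ * t = t * y⁻¹ := (Commute.inv_left (show Commute y t from hyt')).eq
  have h1 : y * w = l * w * y⁻¹ * l⁻¹ := by
    calc y * w = l * (t * (y * w)⁻¹ * t) * l⁻¹ := h
      _ = l * ((t * w⁻¹) * (y⁻¹ * t)) * l⁻¹ := by group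
      _ = l * (w * (t * t) * y⁻¹) * l⁻¹ := by rw [A.t_mul' hwK, hyi]; group
      _ = _ := by rw [hS.mul_self]; group
  have h5 : y = l * w * y⁻¹ * l⁻¹ * w⁻¹ := by
    calc y = y * w * w⁻¹ := by group
      _ = _ := by rw [h1]
  have hyy : y * y ∈ K := by
    have h4 : y * y = (y * (l * w) * y⁻¹) * (l⁻¹ * w⁻¹) := by
      calc y * y = y * (l * w * y⁻¹ * l⁻¹ * w⁻¹) := by rw [← h5]
        _ = _ := by group
    rw [h4]
    exact mul_mem (A.normK y hyD _ (mul_mem hl hwK)) (mul_mem (inv_mem hl) (inv_mem hwK))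
  have hinv := ((A.mem_K _).mp hyy).2
  have hfix : t * (y * y) * t⁻¹ = y * y := by
    have hc : Commute t y := hyt'.symm
    rw [(hc.mul_right hc).eq, mul_inv_cancel_right]
  have h4 : y * y * (y * y) = 1 := by
    nth_rewrite 2 [← hfix]
    rw [hinv, mul_inv_cancel]
  have hyy1 : y * y = 1 := sq_inj_of_odd hS.odd_card (pow_card_mem (mul_mem hyD hyD)) (one_pow _)
    (by rw [h4, one_mul])
  have hy1 : y = 1 := sq_inj_of_odd hS.odd_card (pow_card_mem hyD) (one_pow _) (by rw [hyy1, one_mul])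
  rw [hy1, one_mul]
  exact hwK

omit [FaithfulSMul G Ω] in
/-- The involution `s₀` and `r` of the structure equation. -/
theorem exists_base : ∃ s r : G, s ∈ Z ∧ s ≠ 1 ∧ r ∈ Q ∧ t * s * t = r⁻¹ * t * r := by
  obtain ⟨⟨s, r⟩, ⟨⟨hsa, hs1, hss⟩, hr, he⟩, -⟩ := structure_pair A.setup
  exact ⟨s, r, (A.mem_Z s).mpr ⟨hsa, hss⟩, hs1, hr, he⟩

omit [FaithfulSMul G Ω] in
theorem exists_conj_Z {s z : G} (hs : s ∈ Z) (hs1 : s ≠ 1) (hz : z ∈ Z) (hz1 : z ≠ 1) :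
    ∃ l ∈ K, z = l * s * l⁻¹ := by
  obtain ⟨k, hk, e⟩ := exists_conj_inverted A.setup (s := s) (s' := z)
    ⟨((A.mem_Z s).mp hs).1, hs1, A.Z_sq hs⟩ ⟨((A.mem_Z z).mp hz).1, hz1, A.Z_sq hz⟩
  exact ⟨k⁻¹, inv_mem ((A.mem_K k).mpr hk), by rw [← e]; group⟩

omit [FaithfulSMul G Ω] in
theorem t_conj {l : G} (hl : l ∈ K) (x : G) : t * (l * x * l⁻¹) * t = l⁻¹ * (t * x * t) * l := by
  have h1 : l⁻¹ * t = t * l := (A.t_mul hl).symm
  calc t * (l * x * l⁻¹) * t = (t * l) * x * (l⁻¹ * t) := by group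
    _ = l⁻¹ * t * x * (t * l) := by rw [A.t_mul hl, h1]
    _ = _ := by group

omit [FaithfulSMul G Ω] in
/-- `t z t` for a nontrivial element of `Z`. -/
theorem t_Z {s r l : G} (he : t * s * t = r⁻¹ * t * r) (hl : l ∈ K) :
    t * (l * s * l⁻¹) * t = (l⁻¹ * r⁻¹ * l⁻¹⁻¹) * l⁻¹ * t * (r * l) := by
  rw [A.t_conj hl, he]; group

omit [FaithfulSMul G Ω] in
theorem t_r {s r : G} (he : t * s * t = r⁻¹ * t * r) (hs : s * s = 1) :
    t * r * t = r * 1 * t * s := by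
  have htt := A.setup.mul_self
  calc t * r * t = r * (r⁻¹ * t * r) * t := by group
    _ = r * (t * s * t) * t := by rw [he]
    _ = r * 1 * t * s * (t * t) := by group
    _ = _ := by rw [htt]; group

omit [FaithfulSMul G Ω] in
/-- The key step: `t (r z) t ∈ Q K t Q`. -/
theorem t_rz {s r z : G} (hs : s ∈ Z) (hs1 : s ≠ 1) (hr : r ∈ Q) (hrZ : r ∉ Z)
    (he : t * s * t = r⁻¹ * t * r) (hz : z ∈ Z) :
    ∃ f ∈ Q, ∃ d ∈ K, ∃ g ∈ Q, t * (r * z) * t = f * d * t * g := by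
  have hS := A.setup
  have hti := t_inv hS
  by_cases hz1 : z = 1
  · subst hz1
    exact ⟨r, hr, 1, one_mem _, s, A.Z_le_Q hs, by rw [mul_one r]; simpa using A.t_r he (A.Z_sq hs)⟩
  obtain ⟨l, hl, hzl⟩ := A.exists_conj_Z hs hs1 hz hz1
  have hlD := A.le_two hl
  have hrzQ : r * z ∈ Q := mul_mem hr (A.Z_le_Q hz)
  have hrz1 : r * z ≠ 1 := fun h => hrZ (by rw [eq_inv_of_mul_eq_one_left h]; exact inv_mem hz)
  have hne : t * (r * z) * t ∉ stabilizer G a := fun h => by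
    have h1 : (t * (r * z) * t) • a = a := h
    rw [mul_smul, mul_smul, smul_eq_iff_eq_inv_smul, hti] at h1
    exact hrz1 (eq_one_of_fix_ta hS hrzQ h1)
  obtain ⟨⟨x, g⟩, ⟨hx, hg, hxg⟩, -⟩ := exists_canonical hS hne
  obtain ⟨f, hf, d, hd, rfl⟩ := exists_qd hS hx
  change t * (r * z) * t = f * d * t * g at hxg
  have hinv : t * (r * z)⁻¹ * t = g⁻¹ * (t * d⁻¹ * t) * t * f⁻¹ := by
    calc t * (r * z)⁻¹ * t = (t⁻¹ * (r * z) * t⁻¹)⁻¹ := by group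
      _ = (f * d * t * g)⁻¹ := by rw [hti, hxg]
      _ = g⁻¹ * (t * d⁻¹ * 1) * f⁻¹ := by rw [mul_inv_rev, mul_inv_rev, mul_inv_rev, hti]; group
      _ = g⁻¹ * (t * d⁻¹ * (t * t)) * f⁻¹ := by rw [hS.mul_self]
      _ = _ := by group
  have hlz : s * l⁻¹ * r⁻¹ = l⁻¹ * (r * z)⁻¹ := by
    rw [mul_inv_rev, inv_eq_of_mul_eq_one_right (A.Z_sq hz), hzl]; group
  have hkey : t * (r * z) * t =
      (r * (l * g⁻¹ * l⁻¹)) * (l * (t * d⁻¹ * t) * l⁻¹) * t * (l⁻¹ * (f⁻¹ * r) * l) := by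
    calc t * (r * z) * t = t * r * 1 * z * t := by group
      _ = t * r * (t * t) * z * t := by rw [hS.mul_self]
      _ = (t * r * t) * (t * z * t) := by group
      _ = r * t * (s * l⁻¹ * r⁻¹) * t * r * l := by
          rw [A.t_r he (A.Z_sq hs), hzl, A.t_Z he hl]; group
      _ = r * (t * l⁻¹) * (r * z)⁻¹ * t * r * l := by rw [hlz]; group
      _ = r * l * (t * (r * z)⁻¹ * t) * r * l := by rw [A.t_mul' hl]; group
      _ = r * l * g⁻¹ * (t * d⁻¹ * t) * (t * l⁻¹⁻¹) * (l⁻¹ * (f⁻¹ * r) * l) := by rw [hinv]; group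
      _ = r * l * g⁻¹ * (t * d⁻¹ * t) * (l⁻¹ * t) * (l⁻¹ * (f⁻¹ * r) * l) := by
          rw [inv_inv, A.t_mul hl]
      _ = _ := by group
  have hd' : l * (t * d⁻¹ * t) * l⁻¹ ∈ two G a t :=
    mul_mem (mul_mem hlD (conj_t_mem' hS (inv_mem hd))) (inv_mem hlD)
  obtain ⟨-, hdd, -⟩ := canonical_unique hS hf hd hg
    (mul_mem hr (A.conj_Q hlD (inv_mem hg))) hd'
    (by simpa using A.conj_Q (inv_mem hlD) (mul_mem (inv_mem hf) hr)) (hxg.symm.trans hkey)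
  exact ⟨f, hf, d, A.mem_K_of_eq hd hl hdd, g, hg, hxg⟩

/-- `r ∉ Z` when `|Q| = |Z|²`. -/
theorem base_notMem (hcard : Nat.card Q = Nat.card Z ^ 2) {s r : G} (hs : s ∈ Z) (hs1 : s ≠ 1)
    (he : t * s * t = r⁻¹ * t * r) : r ∉ Z := fun hr => by
  have hS := A.setup
  have hF : Frame a t Q Z (two G a t) :=
    ⟨hS, A.Z_le_Q, le_refl _, fun d hd z hz => A.conj_Z hd hz, fun d hd => conj_t_mem' hS hd,
      fun z hz hz1 => by
        obtain ⟨l, hl, hzl⟩ := A.exists_conj_Z hs hs1 hz hz1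
        have hlD := A.le_two hl
        refine ⟨l⁻¹ * r⁻¹ * l⁻¹⁻¹, A.conj_Z (inv_mem hlD) (inv_mem hr), l⁻¹ * l⁻¹,
          mul_mem (inv_mem hlD) (inv_mem hlD), l⁻¹ * r * l⁻¹⁻¹, A.conj_Z (inv_mem hlD) hr, ?_⟩
        rw [hzl, A.t_Z he hl]
        calc (l⁻¹ * r⁻¹ * l⁻¹⁻¹) * l⁻¹ * t * (r * l)
            = (l⁻¹ * r⁻¹ * l⁻¹⁻¹) * l⁻¹ * (t * l) * (l⁻¹ * r * l) := by group
          _ = _ := by rw [A.t_mul hl]; group⟩
  have hd := Subgroup.card_subgroup_dvd_card (span t Z (two G a t))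
  rw [hF.card_span, card_group hS, hcard] at hd
  obtain ⟨n, hn⟩ := A.isPGroup_Z.exists_card_eq
  have hK := A.card_Z
  have hK2 := A.two_le_K
  set z := Nat.card Z
  have hd' : z + 1 ∣ z * (z ^ 2 + 1) := by
    have hpos : 0 < z * Nat.card (two G a t) := Nat.mul_pos (by omega) Nat.card_pos
    refine (Nat.mul_dvd_mul_iff_left hpos).mp ?_
    convert hd using 1 <;> ring
  have h2 : (z + 1).Coprime z := by simp
  have h3 := h2.dvd_of_dvd_mul_left hd'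
  have h4 : z + 1 ∣ 2 := by
    have e : z ^ 2 + 1 + 2 * z = (z + 1) * (z + 1) + 0 := by ring
    have h5 : z + 1 ∣ (z + 1) * (z + 1) := dvd_mul_right _ _
    have h6 : z + 1 ∣ 2 * z := (Nat.dvd_add_right h3).mp (by rw [e, add_zero]; exact h5)
    have h7 : z + 1 ∣ 2 * z + 2 := ⟨2, by ring⟩
    exact (Nat.dvd_add_right h6).mp h7
  have := Nat.le_of_dvd (by omega) h4
  omega

/-- `Q`, `K` and `t` form a frame. -/
theorem frame (hcard : Nat.card Q = Nat.card Z ∨ Nat.card Q = Nat.card Z ^ 2) :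
    Frame a t Q Q K := by
  have hS := A.setup
  refine ⟨hS, le_refl _, A.le_two, fun d hd u hu => A.conj_Q (A.le_two hd) hu, fun k hk => ?_,
    fun x hx hx1 => ?_⟩
  · rw [A.t_mul hk, mul_assoc, hS.mul_self, mul_one]; exact inv_mem hk
  obtain ⟨s, r, hs, hs1, hr, he⟩ := A.exists_base
  by_cases hxZ : x ∈ Z
  · obtain ⟨l, hl, rfl⟩ := A.exists_conj_Z hs hs1 hxZ hx1
    have hlD := A.le_two hl
    refine ⟨l⁻¹ * r⁻¹ * l⁻¹⁻¹, A.conj_Q (inv_mem hlD) (inv_mem hr), l⁻¹ * l⁻¹,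
      mul_mem (inv_mem hl) (inv_mem hl), l⁻¹ * r * l⁻¹⁻¹, A.conj_Q (inv_mem hlD) hr, ?_⟩
    rw [A.t_Z he hl]
    calc (l⁻¹ * r⁻¹ * l⁻¹⁻¹) * l⁻¹ * t * (r * l)
        = (l⁻¹ * r⁻¹ * l⁻¹⁻¹) * l⁻¹ * (t * l) * (l⁻¹ * r * l) := by group
      _ = _ := by rw [A.t_mul hl]; group
  have hsq : Nat.card Q = Nat.card Z ^ 2 := hcard.resolve_left fun h =>
    hxZ (by rw [Subgroup.eq_of_le_of_card_ge A.Z_le_Q h.le]; exact hx)
  have hrZ := A.base_notMem hsq hs hs1 he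
  obtain ⟨k, hk, z, hz, rfl⟩ := A.exists_conj_coset hsq hr hrZ hx hxZ
  have hkD := A.le_two hk
  obtain ⟨f, hf, d, hd, g, hg, heq⟩ :=
    A.t_rz hs hs1 hr hrZ he (z := k⁻¹ * z * k⁻¹⁻¹) (A.conj_Z (inv_mem hkD) hz)
  refine ⟨k⁻¹ * f * k⁻¹⁻¹, A.conj_Q (inv_mem hkD) hf, k⁻¹ * d * k⁻¹,
    mul_mem (mul_mem (inv_mem hk) hd) (inv_mem hk), k⁻¹ * g * k⁻¹⁻¹, A.conj_Q (inv_mem hkD) hg, ?_⟩
  calc t * (k * r * k⁻¹ * z) * t = t * (k * (r * (k⁻¹ * z * k⁻¹⁻¹)) * k⁻¹) * t := by group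
    _ = k⁻¹ * (f * d * t * g) * k := by rw [A.t_conj hk, heq]
    _ = k⁻¹ * f * k⁻¹⁻¹ * (k⁻¹ * d) * (t * k) * (k⁻¹ * g * k⁻¹⁻¹) := by group
    _ = _ := by rw [A.t_mul hk]; group

end CfsgLib.RankOne.Small.Data
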