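import Mathlib
import Cfsg.Agent.Lib.RankOne.Small.Closure
import Cfsg.Agent.Lib.LocalEven.BenderTransitive.InvolutionIndex
import Cfsg.Agent.Lib.Perm.ZGroup.Basic

/-!
# The subgroup `Q K ∪ Q K t Q` is a simple Zassenhaus group
-/

set_option autoImplicit false

open Cfsg

namespace CfsgLib.RankOne.Small.Data

open MulAction

variable {G Ω : Type*} [Group G] [Finite G] [MulAction G Ω] [FaithfulSMul G Ω] {a : Ω} {t : G}
  {Q Z K : Subgroup G} (A : Data a t Q Z K)
  (hF : Frame a t Q Q K)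

include A hF

theorem span_normal : (span t Q K).Normal := by
  have hS := A.setup
  set L := span t Q K
  have hdL : ∀ d ∈ two G a t, ∀ g ∈ L, d * g * d⁻¹ ∈ L := by
    intro d hd
    suffices L ≤ L.comap (MulAut.conj d).toMonoidHom from fun g hg => this hg
    refine (Subgroup.closure_le _).mpr ?_
    rintro x ((hx | hx) | hx) <;> show d * x * d⁻¹ ∈ L
    · exact left_le_span (A.conj_Q hd hx)
    · exact right_le_span (A.normK d hd x hx)
    · rw [Set.mem_singleton_iff.mp hx]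
      obtain ⟨⟨y, w⟩, ⟨hy, hw, rfl⟩, -⟩ :=
        split_odd hS.mul_self hS.odd_card (fun x hx => conj_t_mem hS hx) hd
      obtain ⟨hyD, hyt⟩ := Subgroup.mem_inf.mp hy
      have hyt' : Commute y t := Subgroup.mem_centralizer_singleton_iff.mp hyt
      have hwK : w ∈ K := (A.mem_K w).mpr hw
      have : y * w * t * (y * w)⁻¹ = (y * (w * w) * y⁻¹) * t := by
        calc y * w * t * (y * w)⁻¹ = y * w * (t * w⁻¹) * y⁻¹ := by group
          _ = y * (w * w) * (t * y⁻¹) := by rw [A.t_mul' hwK]; group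
          _ = _ := by rw [← hyt'.inv_left.eq]; group
      rw [this]
      exact mul_mem (right_le_span (A.normK y hyD _ (mul_mem hwK hwK))) mem_span_t
  refine ⟨fun x hx g => ?_⟩
  have hQL : ∀ q ∈ Q, ∀ x ∈ L, q * x * q⁻¹ ∈ L := fun q hq x hx =>
    mul_mem (mul_mem (left_le_span hq) hx) (inv_mem (left_le_span hq))
  by_cases hg : g ∈ stabilizer G a
  · obtain ⟨q, hq, d, hd, rfl⟩ := exists_qd hS hg
    rw [show q * d * x * (q * d)⁻¹ = q * (d * x * d⁻¹) * q⁻¹ by group]
    exact hQL q hq _ (hdL d hd x hx)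
  · obtain ⟨⟨h, f⟩, ⟨hh, hf, rfl⟩, -⟩ := exists_canonical hS hg
    obtain ⟨q, hq, d, hd, rfl⟩ := exists_qd hS hh
    rw [show q * d * t * f * x * (q * d * t * f)⁻¹ =
      q * (d * (t * (f * x * f⁻¹) * t⁻¹) * d⁻¹) * q⁻¹ by group]
    exact hQL q hq _ (hdL d hd _
      (mul_mem (mul_mem mem_span_t (hQL f hf x hx)) (inv_mem mem_span_t)))

theorem odd_index_span : Odd (span t Q K).index := by
  have h1 := (span t Q K).card_mul_index
  rw [hF.card_span, card_group A.setup] at h1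
  have hd : (span t Q K).index ∣ Nat.card (two G a t) := by
    refine ⟨Nat.card K, ?_⟩
    have hpos : 0 < Nat.card Q * (Nat.card Q + 1) := Nat.mul_pos Nat.card_pos (by omega)
    refine Nat.eq_of_mul_eq_mul_left hpos ?_
    calc Nat.card Q * (Nat.card Q + 1) * Nat.card (two G a t)
        = Nat.card Q * Nat.card (two G a t) * (Nat.card Q + 1) := by ring
      _ = _ := by rw [← h1]; ring
  exact Odd.of_dvd_nat A.setup.odd_card hd

omit hF in
/-- A fixed point free element of `K` makes `x ↦ [k, x]` a bijection of `Q`. -/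
theorem exists_commutator_eq {k : G} (hk : k ∈ K) (hk1 : k ≠ 1) {y : G} (hy : y ∈ Q) :
    ∃ x ∈ Q, k * x * k⁻¹ * x⁻¹ = y := by
  have hkD := A.le_two hk
  let φ : Q → Q := fun x => ⟨k * x * k⁻¹ * (x : G)⁻¹, mul_mem (A.conj_Q hkD x.2) (inv_mem x.2)⟩
  have hinj : Function.Injective φ := by
    intro x x' h
    have h' : k * (x : G) * k⁻¹ * (x : G)⁻¹ = k * x' * k⁻¹ * (x' : G)⁻¹ := congrArg Subtype.val h
    have h1 : k * ((x' : G)⁻¹ * x) * k⁻¹ = (x' : G)⁻¹ * x := by
      calc k * ((x' : G)⁻¹ * x) * k⁻¹ = (k * x' * k⁻¹)⁻¹ * (k * x * k⁻¹ * (x : G)⁻¹) * x := by group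
        _ = _ := by rw [h']; group
    have h2 := A.fpf k hk hk1 _ (mul_mem (inv_mem x'.2) x.2) (by
      calc k * ((x' : G)⁻¹ * x) = k * ((x' : G)⁻¹ * x) * k⁻¹ * k := by group
        _ = _ := by rw [h1])
    exact Subtype.ext (inv_mul_eq_one.mp h2).symm
  obtain ⟨x, hx⟩ := Finite.surjective_of_injective hinj ⟨y, hy⟩
  exact ⟨x, x.2, congrArg Subtype.val hx⟩

theorem setup_span : IsRankOneSetup (span t Q K) Ω a ⟨t, mem_span_t⟩ (Q.subgroupOf (span t Q K)) := by
  have hS := A.setup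
  set L := span t Q K
  have hQL : Q ≤ L := left_le_span
  have hcQ : Nat.card (Q.subgroupOf L) = Nat.card Q :=
    Nat.card_congr (Subgroup.subgroupOfEquivOfLe hQL).toEquiv
  haveI : IsPretransitive L Ω := by
    constructor
    suffices h : ∀ b : Ω, ∃ g : L, g • a = b by
      intro x y
      obtain ⟨g, rfl⟩ := h x
      obtain ⟨g', rfl⟩ := h y
      exact ⟨g' * g⁻¹, by rw [mul_smul, inv_smul_smul]⟩
    intro b
    by_cases hb : b = a
    · exact ⟨1, by rw [hb, one_smul]⟩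
    · obtain ⟨q, ⟨hq, hqb⟩, -⟩ := exists_q hS hb
      exact ⟨⟨q * t, mul_mem (hQL hq) mem_span_t⟩, by
        change (q * t) • a = b
        rw [mul_smul, hqb]⟩
  refine ⟨?_, Subtype.ext hS.mul_self, fun h => hS.ne_one (congrArg Subtype.val h), fun h => hS.not_mem h,
    fun x hx => hS.le hx, fun h hh x hx => hS.conj_mem h hh x hx, ?_, ?_, by rw [hcQ]; exact hS.even_card, ?_⟩
  · refine is_two_pretransitive_iff.mpr fun {x y x' y'} hxy hxy' => ?_
    suffices h : ∀ b c : Ω, b ≠ c → ∃ g : L, g • a = b ∧ g • t • a = c by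
      obtain ⟨g, rfl, rfl⟩ := h x y hxy
      obtain ⟨g', rfl, rfl⟩ := h x' y' hxy'
      exact ⟨g' * g⁻¹, by rw [mul_smul, inv_smul_smul], by rw [mul_smul, inv_smul_smul]⟩
    intro b c hbc
    obtain ⟨g, rfl⟩ := MulAction.exists_smul_eq L a b
    have hc : g⁻¹ • c ≠ a := fun h => hbc (by rw [← h, smul_inv_smul])
    obtain ⟨q, ⟨hq, hqc⟩, -⟩ := exists_q hS hc
    refine ⟨g * ⟨q, hQL hq⟩, ?_, ?_⟩
    · rw [mul_smul]; exact congrArg (g • ·) (hS.le hq)
    · rw [mul_smul]
      change g • (q • t • a) = c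
      rw [hqc, smul_inv_smul]
  · rw [Subgroup.eq_bot_iff_forall]
    rintro x ⟨hx, hxt⟩
    exact Subtype.ext (eq_one_of_fix_ta hS hx hxt)
  · refine le_antisymm (sup_le (fun x hx => hS.le hx) inf_le_left) fun g hg => ?_
    obtain ⟨u, hu, d, hd, e⟩ := hF.mem_span_stab g.2 hg
    have : g = (⟨u, hQL hu⟩ : L) * ⟨d, right_le_span hd⟩ := Subtype.ext e
    rw [this]
    refine Subgroup.mul_mem_sup (Subgroup.mem_subgroupOf.mpr hu) ⟨?_, ?_⟩
    · exact two_le hS (A.le_two hd)
    · exact ((mem_two hS).mp (A.le_two hd)).2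
  · refine Odd.of_dvd_nat hS.odd_card (Subgroup.card_dvd_of_injective
      ((L.subtype.comp (Subgroup.subtype _)).codRestrict (two G a t) fun x => x.2)
      fun x y h => by
        have h' := congrArg Subtype.val h
        exact Subtype.ext (Subtype.ext h'))

theorem span_two {g : G} (hg : g ∈ span t Q K) (hgD : g ∈ two G a t) : g ∈ K := by
  obtain ⟨u, hu, d, hd, rfl⟩ := hF.mem_span_stab hg hgD.1
  have hu1 := mem_two_of_inf A.setup hu (by simpa using mul_mem hgD (inv_mem (A.le_two hd)))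
  rw [hu1, one_mul]; exact hd

theorem isSimple_span : IsSimpleGroup (span t Q K) := by
  classical
  have hS := A.setup
  have hL := A.setup_span hF
  set L := span t Q K
  haveI := pretransitive hL
  obtain ⟨s, r, hs, hs1, hr, he⟩ := A.exists_base
  have hsL : s ∈ L := left_le_span (A.Z_le_Q hs)
  haveI : Nontrivial L := ⟨⟨⟨t, mem_span_t⟩, 1, fun h => hS.ne_one (congrArg Subtype.val h)⟩⟩
  refine ⟨fun N hN => or_iff_not_imp_left.mpr fun hN1 => ?_⟩
  obtain ⟨n, hnN, hn1, hn2⟩ : ∃ n ∈ N, n ≠ (1 : L) ∧ n * n = 1 := by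
    by_contra hcon
    push Not at hcon
    haveI : Fact (Nat.Prime 2) := ⟨Nat.prime_two⟩
    have hodd : Odd (Nat.card N) := by
      rw [← Nat.not_even_iff_odd, even_iff_two_dvd]
      intro h2
      obtain ⟨x, hx⟩ := exists_prime_orderOf_dvd_card' (G := N) 2 h2
      refine hcon x x.2 (fun h => ?_) ?_
      · rw [show x = 1 from Subtype.ext h, orderOf_one] at hx
        omega
      · have := pow_orderOf_eq_one x
        rw [hx, pow_two] at this
        exact congrArg Subtype.val this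
    obtain ⟨k, hk, hk1⟩ : ∃ k ∈ K, k ≠ (1 : G) := by
      by_contra h
      push Not at h
      have h2 := A.two_le_K
      rw [(Subgroup.eq_bot_iff_forall K).mpr h, Subgroup.card_bot] at h2
      omega
    set s' := k * s * k⁻¹ with hs'
    have hs'Z : s' ∈ Z := A.conj_Z (A.le_two hk) hs
    have hne : s ≠ s' := fun h => hs1 (A.fpf k hk hk1 s (A.Z_le_Q hs) (by
      calc k * s = s' * k := by rw [hs']; group
        _ = s * k := by rw [← h]))
    have hs'1 : s' ≠ 1 := fun h => hs1 (conj_eq_one_iff.mp h)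
    have ho : ∀ x : G, x ∈ Z → x ≠ 1 → ∀ hxL : x ∈ L, orderOf (⟨x, hxL⟩ : L) = 2 := fun x hx hx1 hxL =>
      orderOf_eq_prime (Subtype.ext (by simpa [pow_two] using A.Z_sq hx))
        fun h => hx1 (congrArg Subtype.val h)
    have hs'L : s' ∈ L := left_le_span (A.Z_le_Q hs'Z)
    have hN' : ∀ x : L, x ∈ Subgroup.normalizer (N : Set L) := fun x => by
      rw [Subgroup.normalizer_eq_top]; exact Subgroup.mem_top x
    have hle : N ≤ stabilizer L a := by
      refine CfsgLib.LocalEven.BenderTransitive.le_of_centralizer_four (ho s hs hs1 hsL)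
        (ho s' hs'Z hs'1 hs'L) (fun h => hne (congrArg Subtype.val h))
        (Subtype.ext ((A.central s hs).2 s' (A.Z_le_Q hs'Z))) hodd (hN' _) (hN' _) ?_
      intro x hx g hg
      obtain ⟨hxZ, hx1⟩ : (x : G) ∈ Z ∧ (x : G) ≠ 1 := by
        rcases hx with rfl | rfl | rfl
        · exact ⟨hs, hs1⟩
        · exact ⟨hs'Z, hs'1⟩
        · exact ⟨mul_mem hs hs'Z, fun h => hne ((mul_eq_one_iff_eq_inv.mp h).trans
            (inv_eq_of_mul_eq_one_right (A.Z_sq hs'Z)))⟩
      have hgx : (g : G) * x = x * g :=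
        congrArg Subtype.val (Subgroup.mem_centralizer_singleton_iff.mp (Subgroup.mem_inf.mp hg).2)
      have hxa : (x : G) • a = a := ((A.mem_Z _).mp hxZ).1
      exact fix_eq hS (A.Z_sq hxZ) hx1
        (show (x : G) • (g : G) • a = (g : G) • a by rw [← mul_smul, ← hgx, mul_smul, hxa]) hxa
    refine hN1 ((Subgroup.eq_bot_iff_forall N).mpr fun x hx => Subtype.ext ?_)
    refine FaithfulSMul.eq_of_smul_eq_smul (α := Ω) fun b => ?_
    obtain ⟨g, rfl⟩ := MulAction.exists_smul_eq L a b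
    have h := hle (hN.conj_mem x hx g⁻¹)
    have h' : (g⁻¹ * x * g⁻¹⁻¹) • a = a := h
    rw [inv_inv, mul_smul, mul_smul, inv_smul_eq_iff] at h'
    rw [show ((1 : L) : G) = 1 from rfl, one_smul]
    exact h'
  have hall : ∀ x : L, x ≠ 1 → x * x = 1 → x ∈ N := fun x hx1 hx2 => by
    obtain ⟨g, rfl⟩ := isConj_invol hL hn1 hn2 hx1 hx2
    exact hN.conj_mem n hnN g
  have htN : (⟨t, mem_span_t⟩ : L) ∈ N := hall _ hL.ne_one hL.mul_self
  have hKN : ∀ k (hk : k ∈ K), (⟨k, right_le_span hk⟩ : L) ∈ N := by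
    intro k hk
    set z := k ^ ((Nat.card K + 1) / 2)
    have hzK : z ∈ K := pow_mem hk _
    have hzz : z * z = k := by
      obtain ⟨m, hm⟩ := hS.odd_card
      have hodd : Odd (Nat.card K) :=
        Odd.of_dvd_nat hS.odd_card (Subgroup.card_dvd_of_le A.le_two)
      exact sq_root_of_odd hodd (pow_card_mem hk)
    have h1 := N.mul_mem (hN.conj_mem _ htN ⟨z, right_le_span hzK⟩) htN
    have h2 : (⟨z, right_le_span hzK⟩ : L) * ⟨t, mem_span_t⟩ * (⟨z, right_le_span hzK⟩)⁻¹ * ⟨t, mem_span_t⟩ =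
        ⟨k, right_le_span hk⟩ := Subtype.ext (by
      change z * t * z⁻¹ * t = k
      rw [mul_assoc z t z⁻¹, A.t_mul' hzK, mul_assoc, mul_assoc, hS.mul_self, mul_one, hzz])
    rwa [h2] at h1
  obtain ⟨k, hk, hk1⟩ : ∃ k ∈ K, k ≠ (1 : G) := by
    by_contra h
    push Not at h
    have h2 := A.two_le_K
    rw [(Subgroup.eq_bot_iff_forall K).mpr h, Subgroup.card_bot] at h2
    omega
  have hQN : ∀ y (hy : y ∈ Q), (⟨y, left_le_span hy⟩ : L) ∈ N := by
    intro y hy
    obtain ⟨x, hx, hxy⟩ := A.exists_commutator_eq hk hk1 hy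
    have h1 := N.mul_mem (hKN k hk)
      (hN.conj_mem _ (N.inv_mem (hKN k hk)) ⟨x, left_le_span hx⟩)
    have h2 : (⟨k, right_le_span hk⟩ : L) * (⟨x, left_le_span hx⟩ * (⟨k, right_le_span hk⟩ : L)⁻¹ *
        (⟨x, left_le_span hx⟩ : L)⁻¹) = ⟨y, left_le_span hy⟩ := Subtype.ext (by
      change k * (x * k⁻¹ * x⁻¹) = y
      rw [← hxy]; group)
    rwa [h2] at h1
  have hle : L ≤ N.map L.subtype := by
    refine (Subgroup.closure_le _).mpr ?_
    rintro x ((hx | hx) | hx)
    · exact ⟨_, hQN x hx, rfl⟩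
    · exact ⟨_, hKN x hx, rfl⟩
    · exact ⟨_, htN, (Set.mem_singleton_iff.mp hx).symm⟩
  refine eq_top_iff.mpr fun x _ => ?_
  obtain ⟨y, hy, e⟩ := hle x.2
  rwa [← Subtype.ext e]

theorem isZassenhaus_span : Cfsg.IsZassenhausGroup (span t Q K) Ω := by
  have hS := A.setup
  have hL := A.setup_span hF
  haveI := A.isSimple_span hF
  set L := span t Q K
  have hpair : ∀ {x y z w : Ω}, x ≠ y → z ≠ w → ∃ g : L, g • x = z ∧ g • y = w :=
    fun h h' => (is_two_pretransitive_iff.mp hL.two_transitive) h h'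
  have hfaith : FaithfulSMul L Ω := ⟨fun {g g'} h => Subtype.ext (FaithfulSMul.eq_of_smul_eq_smul h)⟩
  have hfree : ∀ g : L, ∀ x y z : Ω, x ≠ y → y ≠ z → x ≠ z → g • x = x → g • y = y → g • z = z →
      g = 1 := by
    intro g x y z hxy hyz hxz hx hy hz
    obtain ⟨h, hhx, hhy⟩ := hpair (ta_ne hS).symm hxy
    set d := h⁻¹ * g * h with hd
    have hda : d • a = a := by rw [hd, mul_smul, mul_smul, hhx, hx, inv_smul_eq_iff, hhx]
    have hdt : d • t • a = t • a := by rw [hd, mul_smul, mul_smul, hhy, hy, inv_smul_eq_iff, hhy]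
    set w := h⁻¹ • z with hw
    have hdw : d • w = w := by rw [hd, hw, mul_smul, mul_smul, smul_inv_smul, hz]
    have hwa : w ≠ a := fun e => hxz (by rw [← hhx, ← e, hw, smul_inv_smul])
    have hwt : w ≠ t • a := fun e => hyz (by rw [← hhy, ← e, hw, smul_inv_smul])
    have hdK : (d : G) ∈ K := A.span_two hF d.2 ((mem_two hS).mpr ⟨hda, hdt⟩)
    obtain ⟨q, ⟨hq, hqw⟩, huniq⟩ := exists_q hS hwa
    have hconj : (d : G) * q * (d : G)⁻¹ = q := huniq _ ⟨A.conj_Q (A.le_two hdK) hq, by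
      rw [mul_smul, mul_smul, inv_smul_eq_iff.mpr (show t • a = (d : G) • t • a from hdt.symm), hqw]
      exact hdw⟩
    by_contra hg
    have hd1 : (d : G) ≠ 1 := fun e => hg (by
      have : d = 1 := Subtype.ext e
      calc g = h * d * h⁻¹ := by rw [hd]; group
        _ = 1 := by rw [this]; group)
    have hq1 := A.fpf d hdK hd1 q hq (by
      calc (d : G) * q = (d : G) * q * (d : G)⁻¹ * d := by group
        _ = q * d := by rw [hconj])
    exact hwt (by rw [← hqw, hq1, one_smul])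
  obtain ⟨k, hk, hk1⟩ : ∃ k ∈ K, k ≠ (1 : G) := by
    by_contra h
    push Not at h
    have h2 := A.two_le_K
    rw [(Subgroup.eq_bot_iff_forall K).mpr h, Subgroup.card_bot] at h2
    omega
  refine ⟨hfaith, hL.two_transitive, hfree, ⟨⟨k, right_le_span hk⟩, fun h => hk1 (congrArg Subtype.val h),
    a, t • a, (ta_ne hS).symm, ((mem_two hS).mp (A.le_two hk)).1, ((mem_two hS).mp (A.le_two hk)).2⟩,
    fun N hN hNt => ?_⟩
  rcases IsSimpleGroup.eq_bot_or_eq_top_of_normal N hN with rfl | rfl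
  · exfalso
    obtain ⟨n, hn⟩ := MulAction.exists_smul_eq (⊥ : Subgroup L) a (t • a)
    have := Subgroup.mem_bot.mp n.2
    refine ta_ne hS ?_
    rw [← hn]
    change (n : L) • a = a
    rw [this, one_smul]
  · refine ⟨a, fun h => ?_⟩
    have hm : (⟨⟨k, right_le_span hk⟩, Subgroup.mem_top _⟩ : (⊤ : Subgroup L)) ∈
        stabilizer (⊤ : Subgroup L) a := ((mem_two hS).mp (A.le_two hk)).1
    rw [h, Subgroup.mem_bot] at hm
    exact hk1 (congrArg Subtype.val (congrArg Subtype.val hm))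

/-- The Zassenhaus setup of the span with kernel `Q`. -/
theorem zsetup_span : Nonempty {S : CfsgLib.Perm.ZGroup.Setup (span t Q K) Ω a (t • a) //
    Nat.card S.F = Nat.card Q} := by
  have hL := A.setup_span hF
  exact ⟨⟨⟨A.isZassenhaus_span hF, (ta_ne A.setup).symm, Q.subgroupOf _, hL.le,
    ⟨fun x hx h => hL.conj_mem h h.2 x hx⟩, fun y z hy hz => regular hL hy hz⟩,
    Nat.card_congr (Subgroup.subgroupOfEquivOfLe left_le_span).toEquiv⟩⟩

end CfsgLib.RankOne.Small.Data
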