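import Mathlib
import Cfsg.Agent.Lib.RankOne.Small.Simple
import Cfsg.Agent.Lib.Perm.ZGroup.SuzukiUnique.Classify

/-!
# The rank-one set-up with `|Q| ≤ q²`: `PSL(2, q)` or a Suzuki group
-/

set_option autoImplicit false

open Cfsg

namespace CfsgLib.RankOne.Small

open MulAction

universe u v

/-- A simple Zassenhaus group whose kernel has `2`-power order is `PSL(2, 2^n)` or a Suzuki group. -/
theorem psl_two_or_isoSuzuki {G : Type u} {Ω : Type v} [Group G] [Finite G] [MulAction G Ω]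
    [Finite Ω] [IsSimpleGroup G] {a b : Ω} (S : CfsgLib.Perm.ZGroup.Setup G Ω a b)
    (h2 : IsPGroup 2 S.F) :
    (∃ (F : Type) (_ : Field F) (_ : Fintype F), (∃ n : ℕ, 2 ≤ n ∧ Fintype.card F = 2 ^ n) ∧
      Nonempty (G ≃* Matrix.ProjectiveSpecialLinearGroup (Fin 2) F)) ∨ Cfsg.Lie.IsoSuzuki G := by
  classical
  letI := Fintype.ofFinite Ω
  haveI := S.hZ.1
  haveI : Fact (Nat.Prime 2) := ⟨Nat.prime_two⟩
  by_cases hFab : IsMulCommutative S.F
  · left
    rcases S.simple_abelian hFab with ⟨p, f, K, _, _, hp, hp2, -, hΩ, -⟩ | ⟨hoddΩ, -, h3, hsharp⟩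
    · exfalso
      obtain ⟨n, hn⟩ := h2.exists_card_eq
      have h1 := S.card_F
      have h4 := S.two_le_F
      have he : p ^ f = 2 ^ n := by omega
      have hf : f ≠ 0 := by rintro rfl; rw [pow_zero] at he; omega
      exact hp2 ((Nat.prime_dvd_prime_iff_eq hp Nat.prime_two).mp
        (hp.dvd_of_dvd_pow (he ▸ dvd_pow_self p hf)))
    · have hinj : Function.Injective (MulAction.toPermHom G Ω) :=
        fun x y h => MulAction.toPerm_injective h
      let e := MonoidHom.ofInjective hinj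
      haveI := h3
      have h3' : MulAction.IsMultiplyPretransitive (MulAction.toPermHom G Ω).range Ω 3 :=
        ⟨fun x y => by
          obtain ⟨k, hk⟩ := MulAction.exists_smul_eq G x y
          exact ⟨⟨MulAction.toPermHom G Ω k, k, rfl⟩, hk⟩⟩
      have hfree : ∀ (p : (MulAction.toPermHom G Ω).range) (x y z : Ω), x ≠ y → x ≠ z → y ≠ z →
          p • x = x → p • y = y → p • z = z → p = 1 := by
        rintro ⟨_, k, rfl⟩ x y z hxy hxz hyz hx hy hz
        refine Subtype.ext ?_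
        show MulAction.toPermHom G Ω k = 1
        rw [S.free hxy hxz hyz hx hy hz, map_one]
      have h1 := S.card_F
      have h5 : 5 ≤ Fintype.card Ω := by
        obtain ⟨n, hn⟩ := h2.exists_card_eq
        obtain ⟨i, hi⟩ := hoddΩ
        have := S.one_lt_H
        have := Nat.le_of_dvd (by have := S.two_le_F; omega) S.card_H_dvd
        omega
      obtain ⟨j, hj, -, F, hF, hFt, hFc, ⟨e'⟩⟩ :=
        CfsgLib.Perm.SharpThreeOdd.exists_psl _ h3' hfree hoddΩ h5
      exact ⟨F, hF, hFt, ⟨j, hj, hFc⟩, ⟨e.trans e'⟩⟩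
  · exact Or.inr (CfsgLib.Perm.ZGroup.Setup.IsTwoKernel.isoSuzuki (S := S) ⟨h2, hFab⟩)

/-- The rank-one set-up with `|Q| = q` or `|Q| = q²`, where `q - 1` is the number of involutions
fixing `a`. -/
theorem psl_or_suzuki {G Ω : Type*} [Group G] [Finite G] [MulAction G Ω] [FaithfulSMul G Ω]
    {a : Ω} {t : G} {Q : Subgroup G} (hS : IsRankOneSetup G Ω a t Q)
    (h2 : ∃ x y : G, x ≠ 1 ∧ y ≠ 1 ∧ x ≠ y ∧ x * x = 1 ∧ y * y = 1 ∧ x * y = y * x)
    (hcard : Nat.card Q = Nat.card (involutionsIn (stabilizer G a : Set G)) + 1 ∨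
      Nat.card Q = (Nat.card (involutionsIn (stabilizer G a : Set G)) + 1) ^ 2) :
    ∃ L : Subgroup G, L.Normal ∧ Odd L.index ∧
      ((∃ (F : Type) (_ : Field F) (_ : Fintype F), (∃ n : ℕ, 2 ≤ n ∧ Fintype.card F = 2 ^ n) ∧
          Nonempty (L ≃* Matrix.ProjectiveSpecialLinearGroup (Fin 2) F)) ∨
        Cfsg.Lie.IsoSuzuki L) := by
  haveI := finite_space hS
  haveI : Fact (Nat.Prime 2) := ⟨Nat.prime_two⟩
  obtain ⟨Z, K, A⟩ := exists_data hS h2
  have hI : Nat.card (involutionsIn (stabilizer G a : Set G)) = Nat.card K := by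
    rw [← card_inverted hS]
    exact Nat.card_congr (Equiv.subtypeEquivRight fun x => (A.mem_K x).symm)
  rw [hI, ← A.card_Z] at hcard
  have hF := A.frame hcard
  haveI := A.isSimple_span hF
  obtain ⟨⟨S, hSF⟩⟩ := A.zsetup_span hF
  obtain ⟨n, hn⟩ := A.isPGroup_Z.exists_card_eq
  have h2F : IsPGroup 2 S.F := by
    rcases hcard with h | h
    · exact IsPGroup.of_card (n := n) (by rw [hSF, h, hn])
    · exact IsPGroup.of_card (n := n * 2) (by rw [hSF, h, hn, ← pow_mul])
  exact ⟨span t Q K, A.span_normal hF, A.odd_index_span hF, psl_two_or_isoSuzuki S h2F⟩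

end CfsgLib.RankOne.Small
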