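import Cfsg.Agent.Lib.RankOne.Small.Cubic
import Cfsg.Agent.Lib.RankOne.Small.Recognition

/-!
# The rank-one set-up with `W = 1`
-/

set_option autoImplicit false

open Cfsg

namespace CfsgLib.RankOne.Small

open MulAction

universe u v

/-- With `W = 1` some normal subgroup of odd index is `PSL(2, 2^n)` or a Suzuki group. -/
theorem conclusion_of_kernelW_bot {G : Type u} {Ω : Type v} [Group G] [Finite G] [MulAction G Ω]
    [FaithfulSMul G Ω] {a : Ω} {t : G} {Q : Subgroup G} (hS : IsRankOneSetup G Ω a t Q)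
    (h2 : ∃ x y : G, x ≠ 1 ∧ y ≠ 1 ∧ x ≠ y ∧ x * x = 1 ∧ y * y = 1 ∧ x * y = y * x)
    (hW : kernelW G a t = ⊥) : CfsgLib.RankOne.Conclusion G := by
  obtain ⟨Z, K, A⟩ := exists_data hS h2
  have hcard : Nat.card Q = Nat.card Z ∨ Nat.card Q = Nat.card Z ^ 2 := by
    rcases A.card_cases hW h2 with e | e | ⟨h, e⟩
    · exact Or.inl e
    · exact Or.inr e
    · exact absurd e (A.not_cubic hW h)
  rw [A.card_Z_invol] at hcard
  obtain ⟨L, hLn, hLo, hL⟩ := psl_or_suzuki hS h2 hcard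
  exact ⟨L, hLn, hLo, hL.elim Or.inl fun h => Or.inr (Or.inl h)⟩

end CfsgLib.RankOne.Small
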