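import Mathlib
import Cfsg.Agent.Lib.RankOne.Small.Closure
import Cfsg.Agent.Lib.RankOne.Split.Defs
import Cfsg.Agent.S1133

/-!
# The cocycle with values in `D / K`

For `u ∈ Q#` write `t u t = f d t g`.  When `W = 1` the group `D / K` is cyclic and the image
`c u` of `d` satisfies `c (g_u g_w⁻¹) = c (u w⁻¹) c w / c u`.  In particular `c u ^ (|Q| + 1) = 1`.
-/

set_option autoImplicit false

open Cfsg

namespace CfsgLib.RankOne.Small

open MulAction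

variable {G Ω : Type*} [Group G] [Finite G] [MulAction G Ω] [FaithfulSMul G Ω] {a : Ω} {t : G}
  {Q Z K : Subgroup G}

/-- `t u t = f d t g` with `f, g ∈ Q` and `d ∈ D`. -/
def Trip (a : Ω) (t : G) (Q : Subgroup G) (u f d g : G) : Prop :=
  f ∈ Q ∧ d ∈ two G a t ∧ g ∈ Q ∧ t * u * t = f * d * t * g

namespace Data

variable (A : Data a t Q Z K)

include A

omit [FaithfulSMul G Ω] in
theorem normalKD : (K.subgroupOf (two G a t)).Normal :=
  ⟨fun x hx d => A.normK d d.2 x hx⟩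

omit [Finite G] [FaithfulSMul G Ω] in
theorem conj_not_mem {u : G} (hu : u ∈ Q) (hu1 : u ≠ 1) : t * u * t ∉ stabilizer G a := fun h => by
  have h1 : (t * u * t) • a = a := h
  rw [mul_smul, mul_smul, smul_eq_iff_eq_inv_smul, t_inv A.setup] at h1
  exact hu1 (eq_one_of_fix_ta A.setup hu h1)

omit [FaithfulSMul G Ω] in
theorem exists_trip {u : G} (hu : u ∈ Q) (hu1 : u ≠ 1) : ∃ f d g : G, Trip a t Q u f d g := by
  obtain ⟨⟨x, g⟩, ⟨hx, hg, hxg⟩, -⟩ := exists_canonical A.setup (A.conj_not_mem hu hu1)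
  obtain ⟨f, hf, d, hd, rfl⟩ := exists_qd A.setup hx
  exact ⟨f, d, g, hf, hd, hg, hxg⟩

omit [FaithfulSMul G Ω] in
theorem trip_unique {u f d g f' d' g' : G} (h : Trip a t Q u f d g) (h' : Trip a t Q u f' d' g') :
    f = f' ∧ d = d' ∧ g = g' :=
  canonical_unique A.setup h.1 h.2.1 h.2.2.1 h'.1 h'.2.1 h'.2.2.1 (h.2.2.2.symm.trans h'.2.2.2)

omit [Finite G] [FaithfulSMul G Ω] in
theorem trip_right_ne {u f d g : G} (hu : u ∈ Q) (h : Trip a t Q u f d g) : g ≠ 1 := fun h1 => by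
  obtain ⟨hf, hd, -, he⟩ := h
  rw [h1, mul_one] at he
  refine A.setup.not_mem ?_
  have h2 : t * u = f * d := mul_right_cancel he
  have : t = (f * d) * u⁻¹ := by rw [← h2]; group
  rw [this]
  exact mul_mem (mul_mem (A.setup.le hf) (two_le A.setup hd)) (inv_mem (A.setup.le hu))

omit [Finite G] [FaithfulSMul G Ω] in
theorem trip_inv {u f d g : G} (h : Trip a t Q u f d g) :
    Trip a t Q u⁻¹ g⁻¹ (t * d⁻¹ * t) f⁻¹ := by
  obtain ⟨hf, hd, hg, he⟩ := h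
  have hti := t_inv A.setup
  refine ⟨inv_mem hg, conj_t_mem' A.setup (inv_mem hd), inv_mem hf, ?_⟩
  calc t * u⁻¹ * t = (t⁻¹ * u * t⁻¹)⁻¹ := by group
    _ = (f * d * t * g)⁻¹ := by rw [hti, he]
    _ = g⁻¹ * (t * d⁻¹ * 1) * f⁻¹ := by rw [mul_inv_rev, mul_inv_rev, mul_inv_rev, hti]; group
    _ = g⁻¹ * (t * d⁻¹ * (t * t)) * f⁻¹ := by rw [A.setup.mul_self]
    _ = _ := by group

omit [Finite G] [FaithfulSMul G Ω] in
theorem trip_right {u f d g : G} (hu : u ∈ Q) (h : Trip a t Q u f d g) :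
    Trip a t Q g⁻¹ u⁻¹ (t * d * t) (d⁻¹ * f * d) := by
  obtain ⟨hf, hd, hg, he⟩ := h
  have htt := A.setup.mul_self
  refine ⟨inv_mem hu, conj_t_mem' A.setup hd, conj_mem' A.setup hd.1 hf, ?_⟩
  have hg' : g = (f * d * t)⁻¹ * (t * u * t) := by rw [he]; group
  calc t * g⁻¹ * t = (t * t⁻¹) * u⁻¹ * t⁻¹ * f * d * (t * t) := by rw [hg']; group
    _ = u⁻¹ * (t * d * 1) * (d⁻¹ * f * d) := by
        rw [htt, t_inv A.setup, htt]; group
    _ = u⁻¹ * (t * d * (t * t)) * (d⁻¹ * f * d) := by rw [htt]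
    _ = _ := by group

omit [FaithfulSMul G Ω] in
/-- The rule for `t (u w⁻¹) t`. -/
theorem trip_mul {u f d g w f' d' g' : G} (hu : u ∈ Q) (hw : w ∈ Q) (hne : u ≠ w)
    (h : Trip a t Q u f d g) (h' : Trip a t Q w f' d' g') :
    g ≠ g' ∧ ∃ f'' e g'' : G, Trip a t Q (g * g'⁻¹) f'' e g'' ∧
      ∃ x y : G, Trip a t Q (u * w⁻¹) x (d * e * (t * d'⁻¹ * t)) y := by
  have hi := A.trip_inv h'
  obtain ⟨hf, hd, hg, he⟩ := h
  obtain ⟨hgi, hdi, hfi, hei⟩ := hi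
  have htt := A.setup.mul_self
  have hti := t_inv A.setup
  have hprod : t * (u * w⁻¹) * t = f * d * t * (g * g'⁻¹) * (t * d'⁻¹ * t) * t * f'⁻¹ := by
    calc t * (u * w⁻¹) * t = (t * u) * 1 * (w⁻¹ * t) := by group
      _ = (t * u) * (t * t) * (w⁻¹ * t) := by rw [htt]
      _ = (t * u * t) * (t * w⁻¹ * t) := by group
      _ = _ := by rw [he, hei]; group
  have hgg : g ≠ g' := fun e => A.conj_not_mem (mul_mem hu (inv_mem hw))
    (fun e1 => hne (mul_inv_eq_one.mp e1)) (by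
      rw [hprod, e, mul_inv_cancel, mul_one]
      have : f * d * t * (t * d'⁻¹ * t) * t * f'⁻¹ = f * d * d'⁻¹ * f'⁻¹ := by
        calc f * d * t * (t * d'⁻¹ * t) * t * f'⁻¹ = f * d * (t * t) * d'⁻¹ * (t * t) * f'⁻¹ := by group
          _ = _ := by rw [htt]; group
      rw [this]
      exact mul_mem (mul_mem (mul_mem (A.setup.le hf) (two_le A.setup hd))
        (two_le A.setup (inv_mem h'.2.1))) (A.setup.le hfi))
  refine ⟨hgg, ?_⟩
  obtain ⟨f'', e, g'', h''⟩ := A.exists_trip (mul_mem hg hgi) fun e => hgg (mul_inv_eq_one.mp e)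
  refine ⟨f'', e, g'', h'', f * (d * f'' * d⁻¹), d' * g'' * d'⁻¹ * f'⁻¹,
    mul_mem hf (A.conj_Q hd h''.1), mul_mem (mul_mem hd h''.2.1) hdi,
    mul_mem (A.conj_Q h'.2.1 h''.2.2.1) hfi, ?_⟩
  calc t * (u * w⁻¹) * t = f * d * t * (g * g'⁻¹) * (t * d'⁻¹ * t) * t * f'⁻¹ := hprod
    _ = f * d * (t * (g * g'⁻¹) * t) * d'⁻¹ * (t * t) * f'⁻¹ := by group
    _ = f * d * (f'' * e * t * g'') * d'⁻¹ * 1 * f'⁻¹ := by rw [h''.2.2.2, htt]
    _ = f * (d * f'' * d⁻¹) * d * e * (t * d'⁻¹ * 1) * (d' * g'' * d'⁻¹ * f'⁻¹) := by group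
    _ = f * (d * f'' * d⁻¹) * d * e * (t * d'⁻¹ * (t * t)) * (d' * g'' * d'⁻¹ * f'⁻¹) := by rw [htt]
    _ = _ := by group

omit [FaithfulSMul G Ω] in
/-- `d` and `t d t` are congruent modulo `K`. -/
theorem swap_div_mem {d : G} (hd : d ∈ two G a t) : (t * d * t)⁻¹ * d ∈ K := by
  have hS := A.setup
  obtain ⟨⟨y, w⟩, ⟨hy, hw, rfl⟩, -⟩ :=
    split_odd hS.mul_self hS.odd_card (fun x hx => conj_t_mem hS hx) hd
  have hyt : y * t = t * y := Subgroup.mem_centralizer_singleton_iff.mp (Subgroup.mem_inf.mp hy).2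
  have hwK : w ∈ K := (A.mem_K w).mpr hw
  have : t * (y * w) * t = y * w⁻¹ := by
    calc t * (y * w) * t = (t * y) * w * t := by group
      _ = y * (t * w) * t := by rw [← hyt]; group
      _ = y * w⁻¹ * (t * t) := by rw [A.t_mul hwK]; group
      _ = _ := by rw [hS.mul_self, mul_one]
  rw [this, show (y * w⁻¹)⁻¹ * (y * w) = w * w by group]
  exact mul_mem hwK hwK

/-- `V = C_D(t)` is cyclic when `W = 1`. -/
theorem exists_V_gen (hW : kernelW G a t = ⊥) :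
    ∃ v : G, Subgroup.zpowers v = two G a t ⊓ Subgroup.centralizer {t} := by
  have hS := A.setup
  obtain ⟨s, r, hs, hs1, -, -⟩ := A.exists_base
  obtain ⟨k, hk, hk1⟩ : ∃ k ∈ K, k ≠ (1 : G) := by
    by_contra h
    push Not at h
    have h2 := A.two_le_K
    rw [(Subgroup.eq_bot_iff_forall K).mpr h, Subgroup.card_bot] at h2
    omega
  have hkD := A.le_two hk
  set s' := k * s * k⁻¹
  have hs'Z : s' ∈ Z := A.conj_Z hkD hs
  have h2 : ∃ x y : G, x ≠ 1 ∧ y ≠ 1 ∧ x ≠ y ∧ x * x = 1 ∧ y * y = 1 ∧ x * y = y * x :=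
    ⟨s, s', hs1, fun h => hs1 (conj_eq_one_iff.mp h), fun h => hs1 (A.fpf k hk hk1 s (A.Z_le_Q hs) (by
      calc k * s = s' * k := by simp only [s']; group
        _ = s * k := by rw [← h])), A.Z_sq hs, A.Z_sq hs'Z, (A.central s hs).2 s' (A.Z_le_Q hs'Z)⟩
  obtain ⟨v, -, hv⟩ := Cfsg.Agent.S1133.result hS h2
  change kernelW G a t ⊔ Subgroup.closure {v} = _ at hv
  rw [hW, bot_sup_eq, ← Subgroup.zpowers_eq_closure] at hv
  exact ⟨v, hv⟩

theorem quot_comm (hW : kernelW G a t = ⊥) {d e : G} (hd : d ∈ two G a t) (he : e ∈ two G a t) :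
    (e * d)⁻¹ * (d * e) ∈ K := by
  have hS := A.setup
  obtain ⟨v, hv⟩ := A.exists_V_gen hW
  obtain ⟨⟨y, w⟩, ⟨hy, hw, rfl⟩, -⟩ :=
    split_odd hS.mul_self hS.odd_card (fun x hx => conj_t_mem hS hx) hd
  obtain ⟨⟨y', w'⟩, ⟨hy', hw', rfl⟩, -⟩ :=
    split_odd hS.mul_self hS.odd_card (fun x hx => conj_t_mem hS hx) he
  rw [← hv] at hy hy'
  obtain ⟨i, rfl⟩ := Subgroup.mem_zpowers_iff.mp hy
  obtain ⟨j, rfl⟩ := Subgroup.mem_zpowers_iff.mp hy'
  have hvD : ∀ i : ℤ, v ^ i ∈ two G a t := fun i => by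
    have h : v ^ i ∈ Subgroup.zpowers v := Subgroup.zpow_mem_zpowers v i
    rw [hv] at h
    exact (Subgroup.mem_inf.mp h).1
  have hwK : w ∈ K := (A.mem_K w).mpr hw
  have hwK' : w' ∈ K := (A.mem_K w').mpr hw'
  have e1 : (v ^ j * w' * (v ^ i * w))⁻¹ * (v ^ i * w * (v ^ j * w')) =
      w⁻¹ * ((v ^ i)⁻¹ * w'⁻¹ * (v ^ i)⁻¹⁻¹) * ((v ^ j)⁻¹ * w * (v ^ j)⁻¹⁻¹) * w' := by
    have hc : (v ^ j)⁻¹ * v ^ i = v ^ i * (v ^ j)⁻¹ := by
      rw [← zpow_neg, ← zpow_add, ← zpow_add, add_comm]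
    calc (v ^ j * w' * (v ^ i * w))⁻¹ * (v ^ i * w * (v ^ j * w'))
        = w⁻¹ * (v ^ i)⁻¹ * w'⁻¹ * ((v ^ j)⁻¹ * v ^ i) * w * v ^ j * w' := by group
      _ = _ := by rw [hc]; group
  rw [e1]
  exact mul_mem (mul_mem (mul_mem (inv_mem hwK) (A.normK _ (inv_mem (hvD i)) _ (inv_mem hwK')))
    (A.normK _ (inv_mem (hvD j)) _ hwK)) hwK'

end Data

end CfsgLib.RankOne.Small
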