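import Mathlib
import Cfsg.Agent.Lib.RankOne.Small.Cocycle

/-!
# A homomorphism of `D` trivial on `K`, evaluated along the structure map

For `χ : D →* M` with `K` in the kernel, `cls u = χ d` where `t u t = f d t g`.  The map `u ↦ g` is a
bijection of `Q#`, and `cls` turns the inverse into the inverse, satisfies the cocycle identity,
`cls (g_u) = (cls u)⁻¹` and `cls u ^ (|Q| + 1) = 1`.
-/

set_option autoImplicit false

open Cfsg

namespace CfsgLib.RankOne.Small.Data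

open MulAction

variable {G Ω : Type*} [Group G] [Finite G] [MulAction G Ω] [FaithfulSMul G Ω] {a : Ω} {t : G}
  {Q Z K : Subgroup G} {M : Type*} [CommGroup M]

/-- The `D`-part of `t u t`, or `1`. -/
noncomputable def dpart (_ : Data a t Q Z K) (u : G) : two G a t :=
  @dite _ (∃ d : two G a t, ∃ f g : G, Trip a t Q u f d g) (_root_.Classical.propDecidable _)
    (fun h => h.choose) (fun _ => 1)

/-- The right `Q`-part of `t u t`, or `1`. -/
noncomputable def gpart (_ : Data a t Q Z K) (u : G) : G :=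
  @dite _ (u ∈ Q ∧ u ≠ 1 ∧ ∃ g : G, ∃ f d : G, Trip a t Q u f d g) (_root_.Classical.propDecidable _)
    (fun h => h.2.2.choose) (fun _ => 1)

/-- The value of `χ` on the `D`-part of `t u t`. -/
noncomputable def cls (A : Data a t Q Z K) (χ : two G a t →* M) (u : G) : M := χ (A.dpart u)

variable (A : Data a t Q Z K)

include A

theorem dpart_eq {u f g : G} {d : two G a t} (h : Trip a t Q u f d g) : A.dpart u = d := by
  have he : ∃ d : two G a t, ∃ f g : G, Trip a t Q u f d g := ⟨d, f, g, h⟩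
  obtain ⟨f', g', h'⟩ := he.choose_spec
  rw [dpart, dif_pos he]
  exact Subtype.ext (A.trip_unique h' h).2.1

theorem gpart_eq {u f d g : G} (hu : u ∈ Q) (hu1 : u ≠ 1) (h : Trip a t Q u f d g) :
    A.gpart u = g := by
  have he : u ∈ Q ∧ u ≠ 1 ∧ ∃ g : G, ∃ f d : G, Trip a t Q u f d g := ⟨hu, hu1, g, f, d, h⟩
  obtain ⟨f', d', h'⟩ := he.2.2.choose_spec
  rw [gpart, dif_pos he]
  exact (A.trip_unique h' h).2.2

theorem gpart_spec {u : G} (hu : u ∈ Q) (hu1 : u ≠ 1) :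
    ∃ f, Trip a t Q u f (A.dpart u) (A.gpart u) := by
  obtain ⟨f, d, g, h⟩ := A.exists_trip hu hu1
  refine ⟨f, ?_⟩
  rw [A.gpart_eq hu hu1 h, A.dpart_eq (d := ⟨d, h.2.1⟩) h]
  exact h

theorem gpart_mem {u : G} (hu : u ∈ Q) (hu1 : u ≠ 1) : A.gpart u ∈ Q ∧ A.gpart u ≠ 1 := by
  obtain ⟨f, h⟩ := A.gpart_spec hu hu1
  exact ⟨h.2.2.1, A.trip_right_ne hu h⟩

theorem gpart_inj {u w : G} (hu : u ∈ Q) (hu1 : u ≠ 1) (hw : w ∈ Q) (hw1 : w ≠ 1)
    (h : A.gpart u = A.gpart w) : u = w := by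
  by_contra hne
  obtain ⟨f, h1⟩ := A.gpart_spec hu hu1
  obtain ⟨f', h2⟩ := A.gpart_spec hw hw1
  exact (A.trip_mul hu hw hne h1 h2).1 h

theorem gpart_surj {v : G} (hv : v ∈ Q) (hv1 : v ≠ 1) : ∃ u, u ∈ Q ∧ u ≠ 1 ∧ A.gpart u = v := by
  let φ : {u : G // u ∈ Q ∧ u ≠ 1} → {u : G // u ∈ Q ∧ u ≠ 1} :=
    fun u => ⟨A.gpart u, A.gpart_mem u.2.1 u.2.2⟩
  obtain ⟨u, hu⟩ := Finite.surjective_of_injective (f := φ)
    (fun x y h => Subtype.ext (A.gpart_inj x.2.1 x.2.2 y.2.1 y.2.2 (congrArg Subtype.val h))) ⟨v, hv, hv1⟩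
  exact ⟨u, u.2.1, u.2.2, congrArg Subtype.val hu⟩

variable (χ : two G a t →* M) (hχ : ∀ k : two G a t, (k : G) ∈ K → χ k = 1)

include hχ

theorem chi_swap {d : two G a t} (h : t * d * t ∈ two G a t) : χ ⟨t * d * t, h⟩ = χ d := by
  refine (inv_mul_eq_one.mp ?_)
  rw [← map_inv, ← map_mul]
  exact hχ _ (A.swap_div_mem d.2)

theorem cls_inv {u : G} (hu : u ∈ Q) : A.cls χ u⁻¹ = (A.cls χ u)⁻¹ := by
  by_cases hu1 : u = 1
  · subst hu1
    have h0 : A.dpart (1 : G) = 1 := by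
      rw [dpart, dif_neg]
      rintro ⟨d, f, g, hf, hd, hg, he⟩
      rw [mul_one, A.setup.mul_self] at he
      exact (show f * d * t * g ∉ stabilizer G a from fun hc => A.setup.not_mem (by
        have := mul_mem (mul_mem (inv_mem (mul_mem (A.setup.le hf) (two_le A.setup d.2))) hc)
          (inv_mem (A.setup.le hg))
        simpa [mul_assoc] using this)) (he ▸ one_mem _)
    rw [inv_one, cls, h0, map_one, inv_one]
  obtain ⟨f, h⟩ := A.gpart_spec hu hu1
  have h' := A.trip_inv h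
  rw [cls, A.dpart_eq (d := ⟨_, h'.2.1⟩) h', cls]
  have := A.chi_swap χ hχ (d := (A.dpart u)⁻¹) h'.2.1
  rw [map_inv] at this
  exact this

theorem cls_gpart {u : G} (hu : u ∈ Q) (hu1 : u ≠ 1) : A.cls χ (A.gpart u) = (A.cls χ u)⁻¹ := by
  obtain ⟨f, h⟩ := A.gpart_spec hu hu1
  have h' := A.trip_right hu h
  have h1 : A.cls χ (A.gpart u)⁻¹ = A.cls χ u := by
    rw [cls, A.dpart_eq (d := ⟨_, h'.2.1⟩) h', cls]
    exact A.chi_swap χ hχ h'.2.1
  rw [A.cls_inv χ hχ (A.gpart_mem hu hu1).1] at h1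
  rw [← h1, inv_inv]

theorem cls_cocycle {u w : G} (hu : u ∈ Q) (hu1 : u ≠ 1) (hw : w ∈ Q) (hw1 : w ≠ 1) (hne : u ≠ w) :
    A.cls χ (u * w⁻¹) = A.cls χ u * A.cls χ (A.gpart u * (A.gpart w)⁻¹) * (A.cls χ w)⁻¹ := by
  obtain ⟨f, h1⟩ := A.gpart_spec hu hu1
  obtain ⟨f', h2⟩ := A.gpart_spec hw hw1
  obtain ⟨-, f'', e, g'', h3, x, y, h4⟩ := A.trip_mul hu hw hne h1 h2
  have hi : t * (A.dpart w : G)⁻¹ * t ∈ two G a t := conj_t_mem' A.setup (inv_mem (A.dpart w).2)
  rw [cls, A.dpart_eq (d := A.dpart u * ⟨e, h3.2.1⟩ * ⟨_, hi⟩) h4, map_mul, map_mul,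
    cls, cls, A.dpart_eq (d := ⟨e, h3.2.1⟩) h3, cls]
  congr 1
  rw [← map_inv]
  exact A.chi_swap χ hχ (d := (A.dpart w)⁻¹) hi

omit hχ in
theorem cls_pow (u : G) : A.cls χ u ^ Nat.card (two G a t) = 1 := by
  rw [cls, ← map_pow, pow_card_eq_one', map_one]

theorem cls_involution {u : G} (hu : u ∈ Q) (h : u * u = 1) : A.cls χ u = 1 := by
  have hi := A.cls_inv χ hχ hu
  rw [inv_eq_of_mul_eq_one_right h] at hi
  have h2 : A.cls χ u * A.cls χ u = 1 := by nth_rewrite 2 [hi]; exact mul_inv_cancel _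
  exact sq_inj_of_odd A.setup.odd_card (A.cls_pow χ u) (one_pow _) (by rw [h2, one_mul])

theorem cls_pow_card_succ {u : G} (hu : u ∈ Q) (hu1 : u ≠ 1) :
    A.cls χ u ^ (Nat.card Q + 1) = 1 := by
  classical
  letI := Fintype.ofFinite G
  let N : Finset G := Finset.univ.filter fun x => x ∈ Q ∧ x ≠ 1
  have hN : ∀ x, x ∈ N ↔ x ∈ Q ∧ x ≠ 1 := fun x => by simp [N]
  have huN : u ∈ N := (hN u).mpr ⟨hu, hu1⟩
  have hgu := A.gpart_mem hu hu1
  have hcard : (N.erase u).card + 2 = Nat.card Q := by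
    have h1 : N = (Finset.univ.filter fun x => x ∈ Q).erase 1 := by ext x; simp [N, and_comm]
    have h2 : (Finset.univ.filter fun x => x ∈ Q).card = Nat.card Q := by
      rw [Nat.card_eq_fintype_card, Fintype.card_subtype]
    have h3 : N.card + 1 = Nat.card Q := by
      rw [h1, Finset.card_erase_add_one (by simp), h2]
    rw [← h3, ← Finset.card_erase_add_one huN]
  -- the product of `cls` over `Q#`
  have hP : ∏ x ∈ N, A.cls χ x = 1 := by
    have h1 : ∏ x ∈ N, A.cls χ x = (∏ x ∈ N, A.cls χ x)⁻¹ := by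
      rw [← Finset.prod_inv_distrib]
      refine Finset.prod_nbij' (fun x => x⁻¹) (fun x => x⁻¹) ?_ ?_ (fun x _ => inv_inv x)
        (fun x _ => inv_inv x) ?_
      · intro x hx
        rw [hN] at hx ⊢
        exact ⟨inv_mem hx.1, inv_ne_one.mpr hx.2⟩
      · intro x hx
        rw [hN] at hx ⊢
        exact ⟨inv_mem hx.1, inv_ne_one.mpr hx.2⟩
      · intro x hx
        rw [A.cls_inv χ hχ ((hN x).mp hx).1, inv_inv]
    have h2 : (∏ x ∈ N, A.cls χ x) ^ Nat.card (two G a t) = 1 := by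
      rw [← Finset.prod_pow]; exact Finset.prod_eq_one fun x _ => A.cls_pow χ x
    refine sq_inj_of_odd A.setup.odd_card h2 (one_pow _) ?_
    nth_rewrite 2 [h1]
    rw [mul_inv_cancel, one_mul]
  have hL : ∏ w ∈ N.erase u, A.cls χ (u * w⁻¹) = (A.cls χ u)⁻¹ := by
    rw [eq_inv_iff_mul_eq_one, mul_comm, ← hP, ← Finset.mul_prod_erase N _ huN]
    congr 1
    refine Finset.prod_nbij' (fun w => u * w⁻¹) (fun w => w⁻¹ * u) ?_ ?_ (fun x _ => by simp [mul_assoc])
      (fun x _ => by simp [mul_assoc]) (fun x _ => rfl)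
    · intro x hx
      simp only [Finset.mem_coe, Finset.mem_erase, hN] at hx ⊢
      exact ⟨fun e => hx.2.2 (by simpa using e), mul_mem hu (inv_mem hx.2.1),
        fun e => hx.1 (mul_inv_eq_one.mp e).symm⟩
    · intro x hx
      simp only [Finset.mem_coe, Finset.mem_erase, hN] at hx ⊢
      exact ⟨fun e => hx.2.2 (by simpa using e), mul_mem (inv_mem hx.2.1) hu,
        fun e => hx.1 (inv_mul_eq_one.mp e)⟩
  have hR : ∏ w ∈ N.erase u, A.cls χ (A.gpart u * (A.gpart w)⁻¹) = A.cls χ u := by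
    have h1 : ∏ w ∈ N.erase u, A.cls χ (A.gpart u * (A.gpart w)⁻¹) =
        ∏ v ∈ N.erase (A.gpart u), A.cls χ v := by
      refine Finset.prod_nbij (fun w => A.gpart u * (A.gpart w)⁻¹) ?_ ?_ ?_ (fun x _ => rfl)
      · intro x hx
        simp only [Finset.mem_coe, Finset.mem_erase, hN] at hx ⊢
        have hgx := A.gpart_mem hx.2.1 hx.2.2
        exact ⟨fun e => hgx.2 (by simpa using e), mul_mem hgu.1 (inv_mem hgx.1),
          fun e => hx.1 (A.gpart_inj hu hu1 hx.2.1 hx.2.2 (mul_inv_eq_one.mp e)).symm⟩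
      · intro x hx y hy h
        simp only [Finset.mem_coe, Finset.mem_erase, hN] at hx hy
        exact A.gpart_inj hx.2.1 hx.2.2 hy.2.1 hy.2.2 (inv_injective (mul_left_cancel h))
      · intro v hv
        simp only [Finset.mem_coe, Finset.mem_erase, hN] at hv
        obtain ⟨w, hw, hw1, e⟩ := A.gpart_surj (mul_mem (inv_mem hv.2.1) hgu.1)
          (fun e => hv.1 (inv_mul_eq_one.mp e))
        refine ⟨w, ?_, by simp [e, mul_assoc]⟩
        simp only [Finset.mem_coe, Finset.mem_erase, hN]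
        exact ⟨fun e' => hv.2.2 (by rw [e'] at e; simpa using e), hw, hw1⟩
    have h2 := Finset.mul_prod_erase N (A.cls χ) ((hN _).mpr hgu)
    rw [hP, A.cls_gpart χ hχ hu hu1, inv_mul_eq_one] at h2
    rw [h1, h2]
  have hW : ∏ w ∈ N.erase u, (A.cls χ w)⁻¹ = A.cls χ u := by
    have h2 := Finset.mul_prod_erase N (A.cls χ) huN
    rw [hP, mul_eq_one_iff_eq_inv] at h2
    rw [Finset.prod_inv_distrib, h2]
  have hmain : ∏ w ∈ N.erase u, A.cls χ (u * w⁻¹) = ∏ w ∈ N.erase u,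
      (A.cls χ u * A.cls χ (A.gpart u * (A.gpart w)⁻¹) * (A.cls χ w)⁻¹) :=
    Finset.prod_congr rfl fun w hw => by
      rw [Finset.mem_erase, hN] at hw
      exact A.cls_cocycle χ hχ hu hu1 hw.2.1 hw.2.2 hw.1.symm
  rw [Finset.prod_mul_distrib, Finset.prod_mul_distrib, hL, hR, hW, Finset.prod_const] at hmain
  rw [← hcard, show (N.erase u).card + 2 + 1 = (N.erase u).card + 3 by ring, pow_add]
  calc A.cls χ u ^ (N.erase u).card * A.cls χ u ^ 3
      = (A.cls χ u ^ (N.erase u).card * A.cls χ u * A.cls χ u) * A.cls χ u := by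
        simp [pow_succ, mul_assoc]
    _ = 1 := by rw [← hmain, inv_mul_cancel]

end CfsgLib.RankOne.Small.Data
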