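import Mathlib

/-!
# A rationality lemma for functions on an abelian `2`-group

If `φ * φ = S φ - 1` off the identity for a function with odd roots of unity as values, then the
Fourier transform is rational valued, so `φ` is constant.
-/

set_option autoImplicit false
set_option linter.style.haveILetI false

namespace CfsgLib.RankOne.Small.Fourier

open IntermediateField

/-- A sum of square roots of one is an integer. -/
theorem exists_int_sum {ι : Type*} (s : Finset ι) (g : ι → ℂ) (h : ∀ i ∈ s, g i * g i = 1) :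
    ∃ m : ℤ, ∑ i ∈ s, g i = (m : ℂ) := by
  classical
  induction s using Finset.induction with
  | empty => exact ⟨0, by simp⟩
  | insert i s hi ih =>
    obtain ⟨m, hm⟩ := ih fun j hj => h j (Finset.mem_insert_of_mem hj)
    rw [Finset.sum_insert hi, hm]
    rcases mul_self_eq_one_iff.mp (h i (Finset.mem_insert_self i s)) with e | e
    · exact ⟨1 + m, by rw [e]; push_cast; ring⟩
    · exact ⟨-1 + m, by rw [e]; push_cast; ring⟩

/-- A root of unity of odd order in the field of the `2^k`-th roots of unity is trivial. -/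
theorem eq_one_of_mem_adjoin {k : ℕ} {η : ℂ} (hη : IsPrimitiveRoot η (2 ^ k)) {ζ : ℂ} {f : ℕ}
    (hf : Odd f) (hζ : ζ ^ f = 1) (hmem : ζ ∈ ℚ⟮η⟯) : ζ = 1 := by
  by_contra hne
  set d := orderOf ζ with hd
  have hfin : IsOfFinOrder ζ := isOfFinOrder_iff_pow_eq_one.mpr ⟨f, hf.pos, hζ⟩
  have hdodd : Odd d := Odd.of_dvd_nat hf (orderOf_dvd_of_pow_eq_one hζ)
  have hd1 : d ≠ 1 := fun e => hne (orderOf_eq_one_iff.mp e)
  have hd3 : 3 ≤ d := by
    obtain ⟨i, hi⟩ := hdodd
    omega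
  have hηo : orderOf η = 2 ^ k := hη.eq_orderOf.symm
  have hcop : (orderOf ζ).Coprime (orderOf η) := by
    rw [hηo]; exact (Nat.coprime_two_left.mpr hdodd).symm.pow_right k
  have hξ : IsPrimitiveRoot (ζ * η) (d * 2 ^ k) := by
    have h := (Commute.all ζ η).orderOf_mul_eq_mul_orderOf_of_coprime hcop
    rw [hηo] at h
    rw [hd, ← h]
    exact IsPrimitiveRoot.orderOf _
  have hint : IsIntegral ℚ η := (hη.isIntegral (by positivity)).tower_top
  haveI : FiniteDimensional ℚ ℚ⟮η⟯ := adjoin.finiteDimensional hint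
  have h1 : (minpoly ℚ (ζ * η)).natDegree ≤ Module.finrank ℚ ℚ⟮η⟯ := by
    have hm : ζ * η ∈ ℚ⟮η⟯ := mul_mem hmem (mem_adjoin_simple_self ℚ η)
    have h := minpoly.natDegree_le (A := ℚ) (⟨ζ * η, hm⟩ : ℚ⟮η⟯)
    have e : minpoly ℚ (⟨ζ * η, hm⟩ : ℚ⟮η⟯) = minpoly ℚ (ζ * η) :=
      (minpoly.algebraMap_eq (A := ℚ) (B := ℚ⟮η⟯) (B' := ℂ) Subtype.val_injective _).symm
    rwa [e] at h
  rw [adjoin.finrank hint, ← Polynomial.cyclotomic_eq_minpoly_rat hξ (by positivity),
    ← Polynomial.cyclotomic_eq_minpoly_rat hη (by positivity), Polynomial.natDegree_cyclotomic,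
    Polynomial.natDegree_cyclotomic, Nat.totient_mul ((Nat.coprime_two_left.mpr hdodd).symm.pow_right k)] at h1
  have h2 : 0 < Nat.totient (2 ^ k) := Nat.totient_pos.mpr (by positivity)
  have h3 : 2 ≤ Nat.totient d := by
    have h4 := Nat.totient_even (show 2 < d by omega)
    have h5 : 0 < Nat.totient d := Nat.totient_pos.mpr (by omega)
    obtain ⟨i, hi⟩ := h4
    omega
  nlinarith

theorem eq_one {B : Type*} [AddCommGroup B] [Fintype B] [DecidableEq B] {k f : ℕ}
    (hB : ∀ x : B, 2 ^ k • x = 0) (hf : Odd f) (φ : B → ℂ) (h0 : φ 0 = 0)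
    (hneg : ∀ u : B, u ≠ 0 → φ u * φ (-u) = 1) (hroot : ∀ u : B, u ≠ 0 → φ u ^ f = 1)
    {z : B} (hz0 : z ≠ 0) (hz : z + z = 0) (hφz : φ z = 1)
    (hconv : ∀ u : B, u ≠ 0 → ∑ w : B, φ w * φ (u - w) = (∑ v : B, φ v) * φ u - 1)
    {u : B} (hu : u ≠ 0) : φ u = 1 := by
  classical
  set S := ∑ v : B, φ v with hS
  set T : AddChar B ℂ → ℂ := fun ψ => ∑ v : B, φ v * ψ v with hT
  set N := Fintype.card B with hN
  -- the quadratic equation
  have hconv' : ∀ v : B, ∑ w : B, φ w * φ (v - w) = S * φ v - 1 + (if v = 0 then (N : ℂ) else 0) := by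
    intro v
    by_cases hv : v = 0
    · subst hv
      rw [if_pos rfl, h0, mul_zero, zero_sub, ← Finset.add_sum_erase _ _ (Finset.mem_univ (0 : B)),
        h0, zero_mul, zero_add]
      rw [Finset.sum_congr rfl fun w hw => by rw [zero_sub, hneg w (Finset.ne_of_mem_erase hw)]]
      rw [Finset.sum_const, Finset.card_erase_of_mem (Finset.mem_univ _), Finset.card_univ,
        nsmul_eq_mul, mul_one, Nat.cast_sub Fintype.card_pos]
      push_cast; ring
    · rw [if_neg hv, add_zero, hconv v hv]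
  have hquad : ∀ ψ : AddChar B ℂ, ψ ≠ 0 → T ψ * T ψ = S * T ψ + N := by
    intro ψ hψ
    calc T ψ * T ψ = ∑ w : B, ∑ v : B, φ w * φ (v - w) * ψ v := by
          rw [hT, Finset.sum_mul_sum]
          refine Finset.sum_congr rfl fun w _ => ?_
          rw [← (Equiv.subRight w).sum_comp]
          refine Finset.sum_congr rfl fun v _ => ?_
          simp only [Equiv.subRight_apply]
          rw [show φ w * ψ w * (φ (v - w) * ψ (v - w)) = φ w * φ (v - w) * (ψ w * ψ (v - w)) by ring,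
            ← AddChar.map_add_eq_mul, add_sub_cancel]
      _ = ∑ v : B, (∑ w : B, φ w * φ (v - w)) * ψ v := by
          rw [Finset.sum_comm]; simp only [Finset.sum_mul]
      _ = ∑ v : B, (S * (φ v * ψ v) - ψ v + if v = 0 then (N : ℂ) * ψ v else 0) := by
          refine Finset.sum_congr rfl fun v _ => ?_
          rw [hconv' v]
          split_ifs <;> ring
      _ = _ := by
          rw [Finset.sum_add_distrib, Finset.sum_sub_distrib, ← Finset.mul_sum,
            AddChar.sum_eq_ite, if_neg hψ, Finset.sum_ite_eq' Finset.univ (0 : B) (fun v => (N : ℂ) * ψ v),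
            if_pos (Finset.mem_univ _), AddChar.map_zero_eq_one, mul_one, sub_zero]
  obtain ⟨ψ₁, hψ₁z⟩ := AddChar.exists_apply_ne_zero.mpr hz0
  have hψ₁ : ψ₁ ≠ 0 := fun e => hψ₁z (by rw [e]; exact AddChar.zero_apply _)
  set A := T ψ₁ with hA
  set Bv := S - A with hBv
  have hAB : ∀ ψ : AddChar B ℂ, ψ ≠ 0 → T ψ ≠ A → T ψ = Bv := by
    intro ψ hψ hne
    have h1 := hquad ψ hψ
    have h2 := hquad ψ₁ hψ₁
    have : (T ψ - A) * (T ψ - Bv) = 0 := by
      rw [hBv]; linear_combination h1 - h2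
    rcases mul_eq_zero.mp this with e | e
    · exact absurd (sub_eq_zero.mp e) hne
    · exact sub_eq_zero.mp e
  -- the two linear equations
  have hT0 : T 0 = S := by simp [hT, hS]
  set R := (Finset.univ : Finset (AddChar B ℂ)).erase 0
  set RA := R.filter fun ψ => T ψ = A
  set RB := R.filter fun ψ => ¬ T ψ = A
  have hsplit : ∀ g : AddChar B ℂ → ℂ, ∑ ψ, g ψ * T ψ =
      g 0 * S + (∑ ψ ∈ RA, g ψ) * A + (∑ ψ ∈ RB, g ψ) * Bv := by
    intro g
    rw [← Finset.add_sum_erase _ _ (Finset.mem_univ (0 : AddChar B ℂ)), hT0,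
      ← Finset.sum_filter_add_sum_filter_not R (fun ψ => T ψ = A), Finset.sum_mul, Finset.sum_mul,
      add_assoc]
    congr 2
    · exact Finset.sum_congr rfl fun ψ hψ => by rw [(Finset.mem_filter.mp hψ).2]
    · exact Finset.sum_congr rfl fun ψ hψ => by
        obtain ⟨h1, h2⟩ := Finset.mem_filter.mp hψ
        rw [hAB ψ (Finset.ne_of_mem_erase h1) h2]
  have horth : ∀ v : B, ∑ ψ : AddChar B ℂ, ψ v * T ψ = (N : ℂ) * φ (-v) := by
    intro v
    calc ∑ ψ : AddChar B ℂ, ψ v * T ψ = ∑ w : B, φ w * ∑ ψ : AddChar B ℂ, ψ (v + w) := by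
          simp only [hT, Finset.mul_sum]
          rw [Finset.sum_comm]
          refine Finset.sum_congr rfl fun w _ => Finset.sum_congr rfl fun ψ _ => ?_
          rw [AddChar.map_add_eq_mul]; ring
      _ = ∑ w : B, if w = -v then (N : ℂ) * φ w else 0 := by
          refine Finset.sum_congr rfl fun w _ => ?_
          rw [AddChar.sum_apply_eq_ite]
          by_cases h : w = -v
          · rw [if_pos h, if_pos (by rw [h]; exact add_neg_cancel v), mul_comm]
          · rw [if_neg h, if_neg (fun e => h (eq_neg_of_add_eq_zero_right e)), mul_zero]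
      _ = _ := by rw [Finset.sum_ite_eq' Finset.univ (-v) fun w => (N : ℂ) * φ w, if_pos (Finset.mem_univ _)]
  have e0 := horth 0
  rw [hsplit fun ψ => ψ 0] at e0
  simp only [AddChar.map_zero_eq_one, neg_zero, h0, mul_zero, one_mul, Finset.sum_const, nsmul_eq_mul,
    mul_one] at e0
  have ez := horth z
  rw [hsplit fun ψ => ψ z, show (0 : AddChar B ℂ) z = 1 from AddChar.zero_apply z, one_mul,
    show -z = z from neg_eq_of_add_eq_zero_left hz, hφz, mul_one] at ez
  have hsq : ∀ ψ : AddChar B ℂ, ψ z * ψ z = 1 := fun ψ => by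
    rw [← AddChar.map_add_eq_mul, hz, AddChar.map_zero_eq_one]
  obtain ⟨mA, hmA⟩ := exists_int_sum RA (fun ψ => ψ z) fun ψ _ => hsq ψ
  have hsum : (∑ ψ ∈ RA, ψ z) + (∑ ψ ∈ RB, ψ z) = -1 := by
    have h := AddChar.sum_apply_eq_ite (α := B) z
    rw [if_neg hz0, ← Finset.add_sum_erase _ _ (Finset.mem_univ (0 : AddChar B ℂ)),
      show (0 : AddChar B ℂ) z = 1 from AddChar.zero_apply z] at h
    rw [Finset.sum_filter_add_sum_filter_not]
    linear_combination h
  rw [show (∑ ψ ∈ RB, ψ z) = -1 - (mA : ℂ) by rw [← hmA]; linear_combination hsum, hmA] at ez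
  -- `A` and `Bv` are rational
  set p : ℚ := (RA.card : ℚ) + 1
  set q : ℚ := (RB.card : ℚ) + 1
  set m : ℚ := (mA : ℚ) + 1
  have hp : (p : ℂ) ≠ 0 := by exact_mod_cast (show p ≠ 0 by positivity)
  have e1 : (p : ℂ) * A + (q : ℂ) * Bv = 0 := by
    simp only [p, q]; push_cast; rw [hBv] at e0 ⊢; linear_combination e0
  have e2 : (m : ℂ) * A + (1 - (m : ℂ)) * Bv = N := by
    simp only [m]; push_cast; rw [hBv] at ez ⊢; linear_combination ez
  have e3 : (((p * (1 - m) - m * q) : ℚ) : ℂ) * Bv = ((p * N : ℚ) : ℂ) := by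
    push_cast; linear_combination (p : ℂ) * e2 - (m : ℂ) * e1
  have hne : p * (1 - m) - m * q ≠ 0 := fun e => by
    rw [e, Rat.cast_zero, zero_mul] at e3
    have h' : (p * (N : ℚ)) = 0 := by exact_mod_cast e3.symm
    have : (0 : ℚ) < p * N := by have := (Fintype.card_pos : 0 < N); positivity
    linarith
  obtain ⟨rB, hrB⟩ : ∃ r : ℚ, Bv = (r : ℂ) := ⟨p * N / (p * (1 - m) - m * q), by
    rw [Rat.cast_div, eq_div_iff (by exact_mod_cast hne), mul_comm]; exact e3⟩
  obtain ⟨rA, hrA⟩ : ∃ r : ℚ, A = (r : ℂ) := ⟨-(q * rB) / p, by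
    rw [hrB] at e1; push_cast; rw [eq_div_iff hp]; linear_combination e1⟩
  -- the values of `φ` lie in the field of `2^k`-th roots of unity
  set η := Complex.exp (2 * Real.pi * Complex.I / (2 ^ k : ℕ)) with hη'
  have hη : IsPrimitiveRoot η (2 ^ k) := Complex.isPrimitiveRoot_exp _ (by positivity)
  have hψmem : ∀ (ψ : AddChar B ℂ) (x : B), ψ x ∈ ℚ⟮η⟯ := by
    intro ψ x
    haveI : NeZero (2 ^ k) := ⟨by positivity⟩
    obtain ⟨i, -, hi⟩ := hη.eq_pow_of_pow_eq_one (ξ := ψ x)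
      (by rw [← AddChar.map_nsmul_eq_pow, hB, AddChar.map_zero_eq_one])
    rw [← hi]; exact pow_mem (mem_adjoin_simple_self ℚ η) i
  have hTmem : ∀ ψ : AddChar B ℂ, T ψ ∈ ℚ⟮η⟯ := by
    intro ψ
    have hrat : ∀ r : ℚ, (r : ℂ) ∈ ℚ⟮η⟯ := fun r => SubfieldClass.ratCast_mem _ r
    by_cases hψ : ψ = 0
    · rw [hψ, hT0, show S = A + Bv by rw [hBv]; ring, hrA, hrB]
      exact add_mem (hrat _) (hrat _)
    by_cases he : T ψ = A
    · rw [he, hrA]; exact hrat _
    · rw [hAB ψ hψ he, hrB]; exact hrat _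
  refine eq_one_of_mem_adjoin hη hf (hroot u hu) ?_
  have hu' := horth (-u)
  rw [neg_neg] at hu'
  have hNne : (N : ℂ) ≠ 0 := Nat.cast_ne_zero.mpr Fintype.card_ne_zero
  have : φ u = (∑ ψ : AddChar B ℂ, ψ (-u) * T ψ) * (N : ℂ)⁻¹ := by
    rw [hu']; field_simp
  rw [this]
  exact mul_mem (sum_mem fun ψ _ => mul_mem (hψmem ψ _) (hTmem ψ)) (inv_mem (_root_.natCast_mem _ N))

end CfsgLib.RankOne.Small.Fourier
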