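import Mathlib
import Cfsg.Agent.Lib.RankOne.Small.Class
import Cfsg.Agent.Lib.RankOne.Small.Fourier

/-!
# `W = 1` and `Q` abelian: the cocycle is trivial
-/

set_option autoImplicit false
set_option linter.style.haveILetI false

open Cfsg

namespace CfsgLib.RankOne.Small

open MulAction

universe u v w

variable {G : Type u} {Ω : Type v} [Group G] [Finite G] [MulAction G Ω] [FaithfulSMul G Ω] {a : Ω}
  {t : G} {Q Z K : Subgroup G}

/-- The quotient `D / K` as a type. -/
abbrev DK (a : Ω) (t : G) (K : Subgroup G) : Type u := two G a t ⧸ K.subgroupOf (two G a t)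

namespace Data

/-- If every value of the cocycle is trivial, `Q` and `K` form a frame. -/
theorem frame_of_mem (A : Data a t Q Z K)
    (h : ∀ u : G, u ∈ Q → u ≠ 1 → (A.dpart u : G) ∈ K) : Frame a t Q Q K := by
  refine ⟨A.setup, le_refl _, A.le_two, fun d hd u hu => A.conj_Q (A.le_two hd) hu, fun k hk => ?_,
    fun x hx hx1 => ?_⟩
  · rw [A.t_mul hk, mul_assoc, A.setup.mul_self, mul_one]; exact inv_mem hk
  · obtain ⟨f, hf⟩ := A.gpart_spec hx hx1
    exact ⟨f, hf.1, A.dpart x, h x hx hx1, A.gpart x, hf.2.2.1, hf.2.2.2⟩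

theorem gpart_one (A : Data a t Q Z K) : A.gpart 1 = 1 := by
  rw [gpart, dif_neg]
  exact fun h => h.2.1 rfl

/-- The complex values of a character composed with the cocycle are trivial for abelian `Q`. -/
theorem cls_eq_one_of_comm {M : Type w} [CommGroup M] (A : Data a t Q Z K) (hQ2 : IsPGroup 2 Q)
    (hcomm : ∀ x ∈ Q, ∀ y ∈ Q, x * y = y * x) (χ : two G a t →* M)
    (hχ : ∀ k : two G a t, (k : G) ∈ K → χ k = 1) (lam : M →* ℂˣ) {u : G} (hu : u ∈ Q) (hu1 : u ≠ 1) :
    lam (A.cls χ u) = 1 := by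
  classical
  letI := Fintype.ofFinite Q
  letI : CommGroup Q :=
    { (inferInstance : Group Q) with mul_comm := fun x y => Subtype.ext (hcomm x x.2 y y.2) }
  let φ : Additive Q → ℂ := fun x =>
    if (x.toMul : G) = 1 then 0 else ((lam (A.cls χ (x.toMul : G)) : ℂˣ) : ℂ)
  have hφ : ∀ x : Q, (x : G) ≠ 1 → φ (Additive.ofMul x) = ((lam (A.cls χ (x : G)) : ℂˣ) : ℂ) :=
    fun x hx => if_neg hx
  have hφ0 : ∀ x : Q, (x : G) = 1 → φ (Additive.ofMul x) = 0 := fun x hx => if_pos hx
  have hne : ∀ x : Additive Q, x ≠ 0 → ((x.toMul : Q) : G) ≠ 1 := fun x hx e => hx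
    (Additive.toMul.injective (Subtype.ext e))
  obtain ⟨k, hk⟩ := hQ2.exists_card_eq
  obtain ⟨s, r, hs, hs1, -, -⟩ := A.exists_base
  have hneg : ∀ x : Additive Q, x ≠ 0 → φ x * φ (-x) = 1 := by
    intro x hx
    obtain ⟨y, rfl⟩ := Additive.ofMul.surjective x
    have hy : (y : G) ≠ 1 := hne _ hx
    have hyi : ((y⁻¹ : Q) : G) ≠ 1 := by simpa using hy
    rw [← ofMul_inv, hφ y hy, hφ _ hyi, Subgroup.coe_inv, A.cls_inv χ hχ y.2, map_inv,
      Units.val_inv_eq_inv_val, mul_inv_cancel₀ (Units.ne_zero _)]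
  have key := Fourier.eq_one (B := Additive Q) (k := k) (f := Nat.card (two G a t))
    (fun x => Additive.toMul.injective (by
      rw [toMul_nsmul, toMul_zero, ← hk]; exact pow_card_eq_one'))
    A.setup.odd_card φ (hφ0 1 rfl) hneg ?_ (z := Additive.ofMul (⟨s, A.Z_le_Q hs⟩ : Q)) ?_ ?_ ?_ ?_
    (u := Additive.ofMul (⟨u, hu⟩ : Q)) ?_
  · rw [hφ _ hu1] at key
    exact Units.ext key
  · intro x hx
    obtain ⟨y, rfl⟩ := Additive.ofMul.surjective x
    rw [hφ y (hne _ hx), ← Units.val_pow_eq_pow_val, ← map_pow, A.cls_pow, map_one, Units.val_one]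
  · exact fun e => hs1 (congrArg (fun x : Additive Q => ((x.toMul : Q) : G)) e)
  · exact Additive.toMul.injective (Subtype.ext (A.Z_sq hs))
  · rw [hφ _ hs1, A.cls_involution χ hχ (A.Z_le_Q hs) (A.Z_sq hs), map_one, Units.val_one]
  · intro x hx
    obtain ⟨y, rfl⟩ := Additive.ofMul.surjective x
    have hy : (y : G) ≠ 1 := hne _ hx
    have hg := A.gpart_mem y.2 hy
    have hgQ : ∀ w : Q, A.gpart (w : G) ∈ Q := fun w => by
      by_cases hw : (w : G) = 1
      · rw [hw, A.gpart_one]; exact one_mem _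
      · exact (A.gpart_mem w.2 hw).1
    let σ : Additive Q → Additive Q := fun w =>
      Additive.ofMul ⟨A.gpart (y : G) * (A.gpart (w.toMul : G))⁻¹, mul_mem hg.1 (inv_mem (hgQ w.toMul))⟩
    have hσi : Function.Injective σ := by
      intro w w' h
      have h' : A.gpart ((w.toMul : Q) : G) = A.gpart ((w'.toMul : Q) : G) :=
        inv_injective (mul_left_cancel (congrArg (fun x : Additive Q => ((x.toMul : Q) : G)) h))
      refine Additive.toMul.injective (Subtype.ext ?_)
      by_cases h1 : ((w.toMul : Q) : G) = 1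
      · rw [h1, A.gpart_one] at h'
        by_contra h2
        exact (A.gpart_mem w'.toMul.2 fun e => h2 (h1.trans e.symm)).2 h'.symm
      by_cases h2 : ((w'.toMul : Q) : G) = 1
      · rw [h2, A.gpart_one] at h'
        exact absurd h' (A.gpart_mem w.toMul.2 h1).2
      exact A.gpart_inj w.toMul.2 h1 w'.toMul.2 h2 h'
    have hyg : φ (Additive.ofMul y) * φ (σ 0) = 1 := by
      have e : σ 0 = Additive.ofMul (⟨A.gpart (y : G), hg.1⟩ : Q) := by
        refine Additive.toMul.injective (Subtype.ext ?_)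
        change A.gpart (y : G) * (A.gpart (1 : G))⁻¹ = A.gpart y
        rw [A.gpart_one, inv_one, mul_one]
      rw [e, hφ y hy, hφ _ hg.2, A.cls_gpart χ hχ y.2 hy, map_inv, Units.val_inv_eq_inv_val,
        mul_inv_cancel₀ (Units.ne_zero _)]
    have hterm : ∀ w : Additive Q, φ w * φ (Additive.ofMul y - w) =
        φ (Additive.ofMul y) * φ (σ w) - if w = 0 then 1 else 0 := by
      intro w
      obtain ⟨w, rfl⟩ := Additive.ofMul.surjective w
      by_cases hw : w = 1
      · subst hw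
        rw [hφ0 1 rfl, zero_mul, if_pos ofMul_one]
        change (0 : ℂ) = φ (Additive.ofMul y) * φ (σ 0) - 1
        rw [hyg, sub_self]
      have hw' : (w : G) ≠ 1 := fun e => hw (Subtype.ext e)
      rw [if_neg (show ¬ Additive.ofMul w = (0 : Additive Q) from fun e => hw (congrArg Additive.toMul e)),
        sub_zero, ← ofMul_div]
      by_cases hwy : w = y
      · subst hwy
        have e2 : φ (σ (Additive.ofMul w)) = 0 := hφ0 _ (mul_inv_cancel _)
        have e0 : φ (0 : Additive Q) = 0 := hφ0 1 rfl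
        simp [e0, e2]
      have hne' : (y : G) ≠ w := fun e => hwy (Subtype.ext e.symm)
      have hd : ((y / w : Q) : G) = (y : G) * (w : G)⁻¹ := by rw [div_eq_mul_inv]; rfl
      have hd1 : ((y / w : Q) : G) ≠ 1 := by rw [hd]; exact fun e => hne' (mul_inv_eq_one.mp e)
      have hσ1 : A.gpart (y : G) * (A.gpart (w : G))⁻¹ ≠ 1 := fun e =>
        hne' (A.gpart_inj y.2 hy w.2 hw' (mul_inv_eq_one.mp e))
      rw [hφ w hw', hφ _ hd1, hφ y hy, hd]
      change _ = _ * φ (Additive.ofMul (⟨A.gpart (y : G) * (A.gpart (w : G))⁻¹, _⟩ : Q))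
      rw [hφ _ hσ1, ← Units.val_mul, ← Units.val_mul, ← map_mul, ← map_mul,
        A.cls_cocycle χ hχ y.2 hy w.2 hw' hne']
      congr 2
      rw [mul_comm, inv_mul_cancel_right]
    simp only [hterm, Finset.sum_sub_distrib, ← Finset.mul_sum]
    rw [Finset.sum_ite_eq' Finset.univ (0 : Additive Q) fun _ => (1 : ℂ), if_pos (Finset.mem_univ _),
      mul_comm]
    congr 2
    exact (Finite.injective_iff_bijective.mp hσi).sum_comp φ
  · exact fun e => hu1 (congrArg (fun x : Additive Q => ((x.toMul : Q) : G)) e)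

theorem frame_of_comm (A : Data a t Q Z K) (hW : kernelW G a t = ⊥) (hQ2 : IsPGroup 2 Q)
    (hcomm : ∀ x ∈ Q, ∀ y ∈ Q, x * y = y * x) : Frame a t Q Q K := by
  haveI := A.normalKD
  letI : CommGroup (DK a t K) :=
    { (inferInstance : Group (DK a t K)) with
      mul_comm := fun x y => by
        obtain ⟨d, rfl⟩ := QuotientGroup.mk_surjective x
        obtain ⟨e, rfl⟩ := QuotientGroup.mk_surjective y
        rw [← QuotientGroup.mk_mul, ← QuotientGroup.mk_mul, eq_comm, QuotientGroup.eq]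
        exact Subgroup.mem_subgroupOf.mpr (A.quot_comm hW d.2 e.2) }
  refine A.frame_of_mem fun u hu hu1 => ?_
  set χ : two G a t →* DK a t K := QuotientGroup.mk' (K.subgroupOf (two G a t))
  have hχ : ∀ k : two G a t, (k : G) ∈ K → χ k = 1 := fun k hk =>
    (QuotientGroup.eq_one_iff k).mpr (Subgroup.mem_subgroupOf.mpr hk)
  have h1 : A.cls χ u = 1 := by
    by_contra hne
    haveI : NeZero (Monoid.exponent (DK a t K)) :=
      ⟨Monoid.ExponentExists.of_finite.exponent_ne_zero⟩
    obtain ⟨lam, hlam⟩ :=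
      CommGroup.exists_apply_ne_one_of_hasEnoughRootsOfUnity (DK a t K) ℂ hne
    exact hlam (A.cls_eq_one_of_comm hQ2 hcomm χ hχ lam hu hu1)
  exact Subgroup.mem_subgroupOf.mp ((QuotientGroup.eq_one_iff _).mp h1)

end Data

end CfsgLib.RankOne.Small
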