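import Mathlib

/-!
# A fixed point lemma for a cyclic group normalising a fixed-point-free group
-/

set_option autoImplicit false

namespace CfsgLib.RankOne.Small

/-- Let `Γ` act on a finite abelian group `M`, let the abelian subgroup `R` of `Γ` be normalised by
`v`, `v ^ p = 1`, with `R` free of nontrivial fixed points on `M` and `v ^ i` centralising no
nontrivial element of `R` for `0 < i < p`.  If `R ≠ 1` and `|R|` is prime to `|M|` and `v` fixes
only the identity, then `M` is trivial. -/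
theorem eq_one_of_no_fixed {M Γ : Type*} [CommGroup M] [Finite M] [Group Γ] [Finite Γ]
    (act : Γ →* MulAut M) (R : Subgroup Γ) (hR : R ≠ ⊥) (hcomm : ∀ x ∈ R, ∀ y ∈ R, x * y = y * x)
    (v : Γ) {p : ℕ} (hp : 0 < p) (hvp : v ^ p = 1) (hnorm : ∀ x ∈ R, v * x * v⁻¹ ∈ R)
    (hfreeR : ∀ x ∈ R, ∀ i : ℕ, 0 < i → i < p → v ^ i * x * (v ^ i)⁻¹ = x → x = 1)
    (hfix : ∀ m : M, (∀ x ∈ R, act x m = m) → m = 1)
    (hv : ∀ m : M, act v m = m → m = 1)
    (hcop : (Nat.card R).Coprime (Nat.card M)) (m : M) : m = 1 := by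
  classical
  letI := Fintype.ofFinite Γ
  have hnorm' : ∀ i : ℕ, ∀ x ∈ R, v ^ i * x * (v ^ i)⁻¹ ∈ R := by
    intro i
    induction i with
    | zero => intro x hx; simpa using hx
    | succ i ih =>
      intro x hx
      rw [show v ^ (i + 1) * x * (v ^ (i + 1))⁻¹ = v * (v ^ i * x * (v ^ i)⁻¹) * v⁻¹ by
        rw [pow_succ']; group]
      exact hnorm _ (ih x hx)
  -- sums over the conjugates of `⟨v⟩`
  have hinner : ∀ x : Γ, ∏ i ∈ Finset.range p, act (x * v ^ i * x⁻¹) m = 1 := by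
    intro x
    set P := ∏ i ∈ Finset.range p, act (v ^ i) (act x⁻¹ m) with hP
    have h1 : act v P = P := by
      obtain ⟨q, rfl⟩ : ∃ q, p = q + 1 := ⟨p - 1, by omega⟩
      rw [hP, map_prod]
      have e : ∀ i, act v (act (v ^ i) (act x⁻¹ m)) = act (v ^ (i + 1)) (act x⁻¹ m) := fun i => by
        rw [pow_succ', map_mul]; rfl
      simp only [e]
      rw [Finset.prod_range_succ, hvp]
      conv_rhs => rw [Finset.prod_range_succ']
      rw [pow_zero]
    have h2 := hv _ h1
    calc ∏ i ∈ Finset.range p, act (x * v ^ i * x⁻¹) m = act x P := by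
          rw [hP, map_prod]
          exact Finset.prod_congr rfl fun i _ => by rw [map_mul, map_mul]; rfl
      _ = 1 := by rw [h2, map_one]
  -- sums over `R`
  have hRsum : ∀ m' : M, ∏ x : R, act (x : Γ) m' = 1 := by
    intro m'
    refine hfix _ fun y hy => ?_
    rw [map_prod]
    refine Fintype.prod_equiv (Equiv.mulLeft (⟨y, hy⟩ : R)) _ _ fun x => ?_
    simp only [Equiv.coe_mulLeft, Subgroup.coe_mul, map_mul]
    rfl
  have hsum : ∏ x : R, ∏ i ∈ Finset.range p, act ((x : Γ) * v ^ i * (x : Γ)⁻¹) m = 1 :=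
    Finset.prod_eq_one fun x _ => hinner x
  rw [Finset.prod_comm, Finset.prod_eq_single_of_mem 0 (Finset.mem_range.mpr hp) ?_] at hsum
  · simp only [pow_zero, mul_one, mul_inv_cancel, map_one, MulAut.one_apply, Finset.prod_const,
      Finset.card_univ, ← Nat.card_eq_fintype_card] at hsum
    exact orderOf_eq_one_iff.mp (Nat.eq_one_of_dvd_coprimes hcop (orderOf_dvd_of_pow_eq_one hsum)
      (orderOf_dvd_natCard m))
  · intro i hi hi0
    have hi' := Finset.mem_range.mp hi
    let φ : R → R := fun x => ⟨(x : Γ) * (v ^ i * (x : Γ)⁻¹ * (v ^ i)⁻¹),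
      mul_mem x.2 (hnorm' i _ (inv_mem x.2))⟩
    have hφ : Function.Bijective φ := Finite.injective_iff_bijective.mp fun x y h => by
      have h' : (x : Γ) * (v ^ i * (x : Γ)⁻¹ * (v ^ i)⁻¹) = (y : Γ) * (v ^ i * (y : Γ)⁻¹ * (v ^ i)⁻¹) :=
        congrArg Subtype.val h
      have h1 : v ^ i * ((x : Γ)⁻¹ * y) * (v ^ i)⁻¹ = (x : Γ)⁻¹ * y := by
        calc v ^ i * ((x : Γ)⁻¹ * y) * (v ^ i)⁻¹
            = (x : Γ)⁻¹ * ((x : Γ) * (v ^ i * (x : Γ)⁻¹ * (v ^ i)⁻¹)) *
                ((v ^ i) * (y : Γ) * (v ^ i)⁻¹) := by group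
          _ = _ := by rw [h']; group
      have := hfreeR _ (mul_mem (inv_mem x.2) y.2) i (Nat.pos_of_ne_zero hi0) hi' h1
      exact Subtype.ext (inv_mul_eq_one.mp this)
    calc ∏ x : R, act ((x : Γ) * v ^ i * (x : Γ)⁻¹) m = ∏ x : R, act (φ x : Γ) (act (v ^ i) m) := by
          refine Finset.prod_congr rfl fun x _ => ?_
          rw [← MulAut.mul_apply, ← map_mul]
          congr 2
          simp only [φ]; group
      _ = ∏ x : R, act (x : Γ) (act (v ^ i) m) :=
          hφ.prod_comp fun x : R => act (x : Γ) (act (v ^ i) m)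
      _ = 1 := hRsum _

end CfsgLib.RankOne.Small
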