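import Mathlib
import Cfsg.Agent.Lib.RankOne.Small.Cocycle
import Cfsg.Agent.Lib.RankOne.SuzukiTwoTypeA
import Cfsg.Agent.S1127

/-!
# `V` acts on the involutions at `a` by field automorphisms

With `W = 1`: for `w ∈ V = C_D(t)` of order `m` the group `Z` has order `|C_Z(w)| ^ m`.
-/

set_option autoImplicit false
set_option linter.style.haveILetI false

open Cfsg

namespace CfsgLib.RankOne.Small.Data

open MulAction

variable {G Ω : Type*} [Group G] [Finite G] [MulAction G Ω] [FaithfulSMul G Ω] {a : Ω} {t : G}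
  {Q Z K : Subgroup G} (A : Data a t Q Z K)

include A

omit [Finite G] [FaithfulSMul G Ω] in
theorem commute_Z {x y : G} (hx : x ∈ Z) (hy : y ∈ Z) : x * y = y * x :=
  (A.central x hx).2 y (A.Z_le_Q hy)

/-- An element of `C_D(t)` centralises `s₀` and `r`. -/
theorem centralizer_t_base {s r w : G} (hs : s ∈ Z) (hs1 : s ≠ 1) (hr : r ∈ Q)
    (he : t * s * t = r⁻¹ * t * r) (hw : w ∈ two G a t) (hwt : w * t = t * w) :
    w * s = s * w ∧ w * r = r * w := by
  have hS := A.setup
  have hsI : s ∈ involutionsIn (stabilizer G a : Set G) := ⟨((A.mem_Z s).mp hs).1, hs1, A.Z_sq hs⟩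
  have h1 : w ∈ two G a t ⊓ Subgroup.centralizer {s} :=
    (Cfsg.Agent.S1127.result hS).1 s r hsI hr he ▸
      (Subgroup.mem_inf.mpr ⟨hw, Subgroup.mem_centralizer_singleton_iff.mpr hwt⟩)
  have hws : w * s = s * w := Subgroup.mem_centralizer_singleton_iff.mp (Subgroup.mem_inf.mp h1).2
  refine ⟨hws, ?_⟩
  have hrel : t * (w * s * w⁻¹) * t = (w * r * w⁻¹)⁻¹ * t * (w * r * w⁻¹) := by
    have e : w⁻¹ * t = t * w⁻¹ := (Commute.inv_left (show Commute w t from hwt)).eq
    calc t * (w * s * w⁻¹) * t = (t * w) * s * (w⁻¹ * t) := by group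
      _ = w * (t * s * t) * w⁻¹ := by rw [← hwt, e]; group
      _ = w * r⁻¹ * w⁻¹ * (w * t) * w⁻¹ * (w * r * w⁻¹) := by rw [he]; group
      _ = _ := by rw [hwt]; group
  rw [show w * s * w⁻¹ = s by rw [hws, mul_inv_cancel_right]] at hrel
  have := (structure_pair hS).unique (y₁ := (s, r)) (y₂ := (s, w * r * w⁻¹))
    ⟨hsI, hr, he⟩ ⟨hsI, A.conj_Q hw hr, hrel⟩
  have h3 : r = w * r * w⁻¹ := congrArg Prod.snd this
  calc w * r = w * r * w⁻¹ * w := by group
    _ = r * w := by rw [← h3]

theorem card_Z_eq_pow (hW : kernelW G a t = ⊥) {w : G} (hw : w ∈ two G a t) (hwt : w * t = t * w) :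
    Nat.card Z = Nat.card ↥(Z ⊓ Subgroup.centralizer {w}) ^ orderOf w := by
  classical
  have hS := A.setup
  obtain ⟨s, r, hs, hs1, hr, he⟩ := A.exists_base
  have hws : w * s = s * w := (A.centralizer_t_base hs hs1 hr he hw hwt).1
  letI : CommGroup Z :=
    { (inferInstance : Group Z) with mul_comm := fun x y => Subtype.ext (A.commute_Z x.2 y.2) }
  haveI := A.cyclicK
  letI : CommGroup K := IsCyclic.commGroup
  let act : K →* AddMonoid.End (Additive Z) :=
    { toFun := fun k : K => (AddMonoidHom.mk'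
        (fun z : Additive Z => Additive.ofMul (⟨(k : G) * (z.toMul : Z) * (k : G)⁻¹, A.conj_Z (A.le_two k.2) z.toMul.2⟩ : Z))
        (fun x y : Additive Z => Additive.toMul.injective (Subtype.ext (show (k : G) * (((x.toMul : Z) : G) * ((y.toMul : Z) : G)) * (k : G)⁻¹ =
          (k : G) * ((x.toMul : Z) : G) * (k : G)⁻¹ * ((k : G) * ((y.toMul : Z) : G) * (k : G)⁻¹) by group))) : AddMonoid.End (Additive Z))
      map_one' := DFunLike.ext _ _ fun z : Additive Z => Additive.toMul.injective (Subtype.ext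
        (show (1 : G) * ((z.toMul : Z) : G) * (1 : G)⁻¹ = ((z.toMul : Z) : G) by group))
      map_mul' := fun k l => DFunLike.ext _ _ fun z : Additive Z => Additive.toMul.injective (Subtype.ext
        (show ((k : G) * l) * ((z.toMul : Z) : G) * ((k : G) * l)⁻¹ =
          (k : G) * ((l : G) * ((z.toMul : Z) : G) * (l : G)⁻¹) * (k : G)⁻¹ by group)) }
  have hact : ∀ (k : K) (z : Z), ((act k (Additive.ofMul z)).toMul : G) = (k : G) * z * (k : G)⁻¹ :=
    fun k z => rfl
  obtain ⟨F, _, _, _, e, hbij, hadd, he1, hmul, hmul'⟩ := SuzukiTwoTypeA.exists_field_of_trans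
    (V := Additive Z) (fun v => Additive.toMul.injective (Subtype.ext (A.Z_sq (v.toMul : Z).2))) act
    (Additive.ofMul (⟨s, hs⟩ : Z)) (fun h => hs1 (congrArg (fun x : Additive Z => ((x.toMul : Z) : G)) h))
    (fun v hv => by
      obtain ⟨l, hl, hzl⟩ := A.exists_conj_Z hs hs1 (v.toMul : Z).2
        (fun h => hv (Additive.toMul.injective (Subtype.ext h)))
      exact ⟨⟨l, hl⟩, Additive.toMul.injective (Subtype.ext hzl.symm)⟩)
  let val : F → G := fun x => ((e x).toMul : Z)
  have hval : ∀ x, val x ∈ Z := fun x => (e x).toMul.2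
  have hval_inj : Function.Injective val := fun x y h =>
    hbij.1 (Additive.toMul.injective (Subtype.ext h))
  have hval_surj : ∀ z ∈ Z, ∃ x, val x = z := fun z hz => by
    obtain ⟨x, hx⟩ := hbij.2 (Additive.ofMul (⟨z, hz⟩ : Z))
    exact ⟨x, congrArg (fun v : Additive Z => ((v.toMul : Z) : G)) hx⟩
  have hval_add : ∀ x y, val (x + y) = val x * val y := fun x y => by
    simp only [val, hadd]; rfl
  have hval_one : val 1 = s := congrArg (fun v : Additive Z => ((v.toMul : Z) : G)) he1
  have hscal : ∀ (k : K), ∃ c : F, c ≠ 0 ∧ ∀ x, val (c * x) = (k : G) * val x * (k : G)⁻¹ := fun k => by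
    obtain ⟨c, hc, h⟩ := hmul k
    refine ⟨c, hc, fun x => ?_⟩
    rw [← hact k (e x).toMul]
    exact (congrArg (fun v : Additive Z => ((v.toMul : Z) : G)) (h x)).symm
  have hscal' : ∀ c : F, c ≠ 0 → ∃ k : K, ∀ x, val (c * x) = (k : G) * val x * (k : G)⁻¹ :=
    fun c hc => by
      obtain ⟨k, h⟩ := hmul' c hc
      refine ⟨k, fun x => ?_⟩
      rw [← hact k (e x).toMul]
      exact (congrArg (fun v : Additive Z => ((v.toMul : Z) : G)) (h x)).symm
  have hval0 : val 0 = 1 := by
    have h := hval_add 0 0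
    rw [add_zero] at h
    exact left_eq_mul.mp h
  -- conjugation by a power of `w`
  have hpowD : ∀ i : ℕ, w ^ i ∈ two G a t := fun i => pow_mem hw i
  have hfun : ∀ i : ℕ, ∀ x, ∃ y, val y = w ^ i * val x * (w ^ i)⁻¹ := fun i x =>
    hval_surj _ (A.conj_Z (hpowD i) (hval x))
  choose σ₀ hσ₀ using hfun
  have hone : ∀ i, σ₀ i 1 = 1 := fun i => hval_inj (by
    rw [hσ₀, hval_one, (Commute.pow_left (show Commute w s from hws) i).eq, mul_inv_cancel_right])
  have hmul_σ : ∀ i x y, σ₀ i (x * y) = σ₀ i x * σ₀ i y := by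
    intro i x y
    by_cases hx : x = 0
    · have h0 : σ₀ i 0 = 0 := hval_inj (by rw [hσ₀, hval0]; group)
      rw [hx, zero_mul, h0, zero_mul]
    obtain ⟨k, hk⟩ := hscal' x hx
    obtain ⟨c, -, hc⟩ := hscal ⟨w ^ i * k * (w ^ i)⁻¹, A.normK _ (hpowD i) _ k.2⟩
    have key : ∀ z, σ₀ i (x * z) = c * σ₀ i z := fun z => hval_inj (by
      rw [hσ₀, hk, hc, hσ₀]; group)
    have hc1 : c = σ₀ i x := by
      have := key 1
      rw [mul_one, hone, mul_one] at this
      exact this.symm
    rw [key, hc1]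
  have hadd_σ : ∀ i x y, σ₀ i (x + y) = σ₀ i x + σ₀ i y := fun i x y => hval_inj (by
    rw [hσ₀, hval_add, hval_add, hσ₀, hσ₀]; group)
  have hbij_σ : ∀ i, Function.Bijective (σ₀ i) := fun i =>
    Finite.injective_iff_bijective.mp fun x y h => by
      have h' := congrArg val h
      rw [hσ₀, hσ₀] at h'
      exact hval_inj (mul_left_cancel (mul_right_cancel h'))
  let σ : ℕ → (F ≃+* F) := fun i =>
    RingEquiv.ofBijective ({ toFun := σ₀ i, map_one' := hone i, map_mul' := hmul_σ i,
                             map_zero' := hval_inj (by rw [hσ₀, hval0]; group),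
                             map_add' := hadd_σ i } : F →+* F) (hbij_σ i)
  have hσval : ∀ i x, val (σ i x) = w ^ i * val x * (w ^ i)⁻¹ := hσ₀
  have hσpow : ∀ i, σ i = σ 1 ^ i := by
    intro i
    induction i with
    | zero =>
      refine RingEquiv.ext fun x => hval_inj ?_
      rw [hσval, pow_zero, pow_zero, one_mul, inv_one, mul_one]; rfl
    | succ i ih =>
      refine RingEquiv.ext fun x => hval_inj ?_
      rw [hσval, pow_succ' (σ 1) i]
      change _ = val (σ 1 ((σ 1 ^ i) x))
      rw [hσval 1, ← ih, hσval i, pow_one, pow_succ' w i]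
      group
  have hker : ∀ i, σ i = 1 → w ^ i = 1 := by
    intro i hi
    have hfix : ∀ z ∈ Z, w ^ i * z = z * w ^ i := fun z hz => by
      obtain ⟨x, rfl⟩ := hval_surj z hz
      have h := hσval i x
      rw [hi] at h
      exact (mul_inv_eq_iff_eq_mul.mp h.symm).trans rfl
    have h2 : w ^ i ∈ kernelW G a t := by
      rw [show kernelW G a t = _ from (Cfsg.Agent.S1127.result hS).2]
      exact Subgroup.mem_inf.mpr ⟨hpowD i, Subgroup.mem_centralizer_iff.mpr
        fun z hz => (hfix z ((A.mem_Z z).mpr ⟨hz.1, hz.2.2⟩)).symm⟩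
    rwa [hW, Subgroup.mem_bot] at h2
  have hord : orderOf (σ 1) = orderOf w := by
    refine Nat.dvd_antisymm (orderOf_dvd_of_pow_eq_one ?_) (orderOf_dvd_of_pow_eq_one (hker _ ?_))
    · rw [← hσpow]
      refine RingEquiv.ext fun x => hval_inj ?_
      rw [hσval, pow_orderOf_eq_one, one_mul, inv_one, mul_one]; rfl
    · rw [hσpow, pow_orderOf_eq_one]
  -- Artin
  let H : Subgroup (F ≃+* F) := Subgroup.zpowers (σ 1)
  haveI : Finite (F ≃+* F) := Finite.of_injective (fun f => (f : F → F)) DFunLike.coe_injective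
  letI : Fintype H := Fintype.ofFinite _
  have hfin := FixedPoints.finrank_eq_card H F
  rw [← Nat.card_eq_fintype_card, Nat.card_zpowers, hord] at hfin
  have hZF : Nat.card Z = Nat.card F :=
    (Nat.card_congr ((Equiv.ofBijective e hbij).trans Additive.toMul)).symm
  rw [hZF, ← hfin, Module.natCard_eq_pow_finrank (K := FixedPoints.subfield H F) (V := F)]
  congr 1
  refine Nat.card_congr (Equiv.ofBijective
    (fun x : FixedPoints.subfield H F => (⟨val x, hval x, Subgroup.mem_centralizer_singleton_iff.mpr ?_⟩ :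
      ↥(Z ⊓ Subgroup.centralizer {w}))) ⟨fun x y h => by
        have h' := congrArg Subtype.val h
        exact Subtype.ext (hval_inj h'),
      fun z => ?_⟩)
  · have h := hσval 1 (x : F)
    have hx : σ 1 (x : F) = x := x.2 ⟨σ 1, Subgroup.mem_zpowers _⟩
    rw [hx, pow_one] at h
    calc val x * w = w * val x * w⁻¹ * w := by rw [← h]
      _ = _ := by group
  · obtain ⟨x, hx⟩ := hval_surj _ (Subgroup.mem_inf.mp z.2).1
    have hc : (z : G) * w = w * z := Subgroup.mem_centralizer_singleton_iff.mp (Subgroup.mem_inf.mp z.2).2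
    have hfixσ : σ 1 x = x := hval_inj (by rw [hσval, pow_one, hx, ← hc, mul_inv_cancel_right])
    have hall : ∀ i : ℤ, (σ 1 ^ i) x = x := fun i => by
      have h1 : σ 1 ∈ MulAction.stabilizer (F ≃+* F) x := hfixσ
      exact zpow_mem h1 i
    exact ⟨⟨x, fun g => by
      obtain ⟨i, hi⟩ := Subgroup.mem_zpowers_iff.mp g.2
      change (g : F ≃+* F) x = x
      rw [← hi]; exact hall i⟩, Subtype.ext hx⟩

end CfsgLib.RankOne.Small.Data
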