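import Mathlib
import Cfsg.Agent.Lib.RankOne.Small.Galois
import Cfsg.Agent.Lib.RankOne.Split.Dichotomy
import Cfsg.Agent.S1125

/-!
# The centraliser of an element of prime order of `V` on its fixed points

`W = 1`, `v ∈ C_D(t)` has prime order: `C(v)` induces on `Fix v` a rank-one set-up with kernel `⟨v⟩`
and again `W = 1`.
-/

set_option autoImplicit false
set_option linter.style.haveILetI false

open Cfsg

namespace CfsgLib.RankOne.Small

open MulAction

universe u v

variable {G : Type u} {Ω : Type v} [Group G] [MulAction G Ω]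

/-- The fixed points of `v` as a space for `C(v)`. -/
def fixSub (x : G) : SubMulAction (Subgroup.centralizer ({x} : Set G)) Ω where
  carrier := {b | x • b = b}
  smul_mem' g b hb := by
    change x • (g : G) • b = (g : G) • b
    rw [← mul_smul, ← Subgroup.mem_centralizer_singleton_iff.mp g.2, mul_smul, hb]

/-- The fixed points of `x`. -/
abbrev FixPt (Ω : Type v) [MulAction G Ω] (x : G) : Type v := ↥(fixSub (Ω := Ω) x)

/-- The group induced by `C(x)` on the fixed points of `x`. -/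
abbrev Cen (Ω : Type v) [MulAction G Ω] (x : G) : Subgroup (Equiv.Perm (FixPt Ω x)) :=
  (MulAction.toPermHom (Subgroup.centralizer ({x} : Set G)) (FixPt Ω x)).range

/-- The projection. -/
def rho (Ω : Type v) [MulAction G Ω] (x : G) : Subgroup.centralizer ({x} : Set G) →* Cen Ω x :=
  (MulAction.toPermHom (Subgroup.centralizer ({x} : Set G)) (FixPt Ω x)).rangeRestrict

theorem rho_surjective (x : G) : Function.Surjective (rho Ω x) :=
  MonoidHom.rangeRestrict_surjective _

theorem coe_rho_smul (x : G) (g : Subgroup.centralizer ({x} : Set G)) (b : FixPt Ω x) :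
    ((rho Ω x g • b : FixPt Ω x) : Ω) = (g : G) • (b : Ω) := rfl

theorem rho_eq_one_iff (x : G) (g : Subgroup.centralizer ({x} : Set G)) :
    rho Ω x g = 1 ↔ ∀ b : Ω, x • b = b → (g : G) • b = b := by
  constructor
  · intro h b hb
    have h1 := coe_rho_smul x g ⟨b, hb⟩
    rw [h, one_smul] at h1
    exact h1.symm
  · intro h
    exact Subtype.ext (Equiv.ext fun b => Subtype.ext (h b b.2))

instance (x : G) : FaithfulSMul (Cen Ω x) (FixPt Ω x) :=
  ⟨fun h => Subtype.ext (Equiv.ext h)⟩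

variable [Finite G] [FaithfulSMul G Ω] {a : Ω} {t : G} {Q Z K : Subgroup G}

/-- The image of `t`. -/
def tC (Ω : Type v) [MulAction G Ω] {x t : G} (hxt : x * t = t * x) : Cen Ω x :=
  rho Ω x ⟨t, Subgroup.mem_centralizer_singleton_iff.mpr hxt.symm⟩

namespace Data

variable (A : Data a t Q Z K) (hW : kernelW G a t = ⊥) {x : G} (hx : x ∈ two G a t)
  (hxt : x * t = t * x)

include A hx

omit [Finite G] [FaithfulSMul G Ω] in
theorem fix_a : x • a = a ∧ x • t • a = t • a := (mem_two A.setup).mp hx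

/-- The point `a` among the fixed points. -/
def pa : FixPt Ω x := ⟨a, (A.fix_a hx).1⟩

include hxt

theorem t_smul_pa : ((tC Ω hxt • A.pa hx : FixPt Ω x) : Ω) = t • a := rfl

theorem mem_two_fix {g : Subgroup.centralizer ({x} : Set G)} :
    rho Ω x g ∈ two (Cen Ω x) (A.pa hx) (tC Ω hxt) ↔ (g : G) ∈ two G a t := by
  rw [mem_two A.setup]
  constructor
  · intro h
    exact ⟨congrArg Subtype.val (Subgroup.mem_inf.mp h).1, congrArg Subtype.val (Subgroup.mem_inf.mp h).2⟩
  · intro h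
    exact Subgroup.mem_inf.mpr ⟨Subtype.ext h.1, Subtype.ext h.2⟩

theorem setup_fix :
    IsRankOneSetup (Cen Ω x) (FixPt Ω x) (A.pa hx) (tC Ω hxt)
      ((Q.subgroupOf (Subgroup.centralizer {x})).map (rho Ω x)) := by
  have hS := A.setup
  obtain ⟨hxa, hxta⟩ := A.fix_a hx
  obtain ⟨s, r, hs, hs1, hr, he⟩ := A.exists_base
  obtain ⟨hxs, hxr⟩ := A.centralizer_t_base hs hs1 hr he hx hxt
  have hr1 : r ≠ 1 := fun e => by
    rw [e, inv_one, one_mul, mul_one] at he
    have : t * s = 1 := mul_right_cancel (he.trans (one_mul t).symm)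
    exact hS.not_mem (by
      rw [eq_inv_of_mul_eq_one_left this]; exact inv_mem ((A.mem_Z s).mp hs).1)
  have hrta : r • t • a ≠ a := fun h => ta_ne hS (by
    rw [← inv_smul_eq_iff.mpr h.symm]; exact inv_mem (hS.le hr))
  have h1125 := Cfsg.Agent.S1125.result hS {x} (Set.singleton_subset_iff.mpr hx)
    ⟨a, t • a, r • t • a, (ta_ne hS).symm, hrta.symm, fun h => hr1 (eq_one_of_fix_ta hS hr h.symm),
      fun y hy => by
        rw [Set.mem_singleton_iff.mp hy]
        exact ⟨hxa, hxta, by rw [smul_smul, hxr, mul_smul, hxta]⟩⟩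
  obtain ⟨htrans, heven, hsup⟩ := h1125
  have hQC : ∀ g : Cen Ω x, g ∈ (Q.subgroupOf (Subgroup.centralizer {x})).map (rho Ω x) →
      ∃ q : Subgroup.centralizer ({x} : Set G), (q : G) ∈ Q ∧ rho Ω x q = g := fun g hg => hg
  have hstab : ∀ g : Cen Ω x, g ∈ stabilizer (Cen Ω x) (A.pa hx) → ∃ (q : Subgroup.centralizer ({x} : Set G))
      (d : Subgroup.centralizer ({x} : Set G)), (q : G) ∈ Q ∧ (d : G) ∈ two G a t ∧
        g = rho Ω x q * rho Ω x d := by
    intro g hg
    obtain ⟨g, rfl⟩ := rho_surjective x g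
    have hga : (g : G) • a = a := congrArg Subtype.val hg
    have hg' : (g : G) ∈ Subgroup.centralizer {x} ⊓ stabilizer G a := ⟨g.2, hga⟩
    rw [← hsup] at hg'
    have hn : Subgroup.centralizer {x} ⊓ two G a t ≤
        Subgroup.normalizer ((Subgroup.centralizer {x} ⊓ Q : Subgroup G) : Set G) := fun d hd =>
      Subgroup.inf_normalizer_le_normalizer_inf
        ⟨Subgroup.le_normalizer (Subgroup.mem_inf.mp hd).1, two_le_normalizer hS (Subgroup.mem_inf.mp hd).2⟩
    rw [← SetLike.mem_coe, Subgroup.coe_mul_of_right_le_normalizer_left _ _ hn] at hg'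
    obtain ⟨q, hq, d, hd, e⟩ := hg'
    refine ⟨⟨q, (Subgroup.mem_inf.mp hq).1⟩, ⟨d, (Subgroup.mem_inf.mp hd).1⟩, (Subgroup.mem_inf.mp hq).2,
      (Subgroup.mem_inf.mp hd).2, ?_⟩
    rw [← map_mul]
    exact congrArg _ (Subtype.ext e.symm)
  refine ⟨is_two_pretransitive_iff.mpr ?_, ?_, ?_, fun h => hS.not_mem (congrArg Subtype.val h), ?_, ?_, ?_, ?_, ?_, ?_⟩
  · intro b b' c c' hb hc
    obtain ⟨g, hg, e1, e2⟩ := htrans b b' c c' (fun y hy => by
      rw [Set.mem_singleton_iff.mp hy]; exact ⟨b.2, b'.2, c.2, c'.2⟩)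
      (fun e => hb (Subtype.ext e)) (fun e => hc (Subtype.ext e))
    exact ⟨rho Ω x ⟨g, hg⟩, Subtype.ext e1, Subtype.ext e2⟩
  · change rho Ω x _ * rho Ω x _ = 1
    rw [← map_mul, ← map_one (rho Ω x)]
    exact congrArg _ (Subtype.ext hS.mul_self)
  · intro h
    exact ta_ne hS ((rho_eq_one_iff x ⟨t, Subgroup.mem_centralizer_singleton_iff.mpr hxt.symm⟩).mp h a hxa)
  · intro g hg
    obtain ⟨q, hq, rfl⟩ := hQC g hg
    exact Subtype.ext (hS.le hq)
  · intro h hh g hg
    obtain ⟨q, hq, rfl⟩ := hQC g hg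
    obtain ⟨h, rfl⟩ := rho_surjective x h
    have hha : (h : G) • a = a := congrArg Subtype.val hh
    exact ⟨h * q * h⁻¹, hS.conj_mem h hha q hq, by rw [map_mul, map_mul, map_inv]⟩
  · rw [Subgroup.eq_bot_iff_forall]
    rintro g ⟨hg, hgt⟩
    obtain ⟨q, hq, rfl⟩ := hQC g hg
    have : q = 1 := Subtype.ext (eq_one_of_fix_ta hS hq (congrArg Subtype.val hgt))
    rw [this, map_one]
  · refine le_antisymm (sup_le ?_ inf_le_left) fun g hg => ?_
    · intro g hg'
      obtain ⟨q, hq, rfl⟩ := hQC g hg'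
      exact Subtype.ext (hS.le hq)
    · obtain ⟨q, d, hq, hd, rfl⟩ := hstab g hg
      exact Subgroup.mul_mem_sup ⟨q, hq, rfl⟩ ((A.mem_two_fix hx hxt).mpr hd)
  · have hinj : Function.Injective ((rho Ω x).comp (Q.subgroupOf (Subgroup.centralizer {x})).subtype) := by
      refine (injective_iff_map_eq_one _).mpr fun q hq => ?_
      exact Subtype.ext (Subtype.ext (eq_one_of_fix_ta hS q.2
        ((rho_eq_one_iff x _).mp hq _ hxta)))
    have hc : Nat.card ((Q.subgroupOf (Subgroup.centralizer {x})).map (rho Ω x)) =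
        Nat.card ↥(Subgroup.centralizer {x} ⊓ Q) := by
      have e : ((rho Ω x).comp (Q.subgroupOf (Subgroup.centralizer {x})).subtype).range =
          (Q.subgroupOf (Subgroup.centralizer {x})).map (rho Ω x) := by
        rw [MonoidHom.range_comp, Subgroup.range_subtype]
      rw [← e, ← Nat.card_congr (MonoidHom.ofInjective hinj).toEquiv,
        Nat.card_congr (Subgroup.subgroupOfEquivOfLe (inf_le_left :
          Subgroup.centralizer {x} ⊓ Q ≤ Subgroup.centralizer {x})).symm.toEquiv, Subgroup.inf_subgroupOf_left]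
    rw [hc]; exact heven
  · refine Odd.of_dvd_nat hS.odd_card ?_
    have hle : two (Cen Ω x) (A.pa hx) (tC Ω hxt) ≤
        ((two G a t).subgroupOf (Subgroup.centralizer {x})).map (rho Ω x) := fun g hg => by
      obtain ⟨g, rfl⟩ := rho_surjective x g
      exact ⟨g, (A.mem_two_fix hx hxt).mp hg, rfl⟩
    refine (Subgroup.card_dvd_of_le hle).trans ((Subgroup.card_map_dvd _ _).trans ?_)
    exact Subgroup.card_dvd_of_injective ((Subgroup.subtype _).comp (Subgroup.subtype _) |>.codRestrict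
      (two G a t) fun g => g.2) fun y z h => by
        have h' := congrArg Subtype.val h
        exact Subtype.ext (Subtype.ext h')

/-- The image of an element of `Q ∩ C(x)` determines it. -/
theorem rho_Q_inj {q q' : Subgroup.centralizer ({x} : Set G)} (hq : (q : G) ∈ Q) (hq' : (q' : G) ∈ Q)
    (h : rho Ω x q = rho Ω x q') : q = q' := by
  have h1 : rho Ω x (q⁻¹ * q') = 1 := by rw [map_mul, map_inv, h, inv_mul_cancel]
  have h2 := eq_one_of_fix_ta A.setup (mul_mem (inv_mem hq) hq')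
    ((rho_eq_one_iff x _).mp h1 _ (A.fix_a hx).2)
  exact Subtype.ext (inv_mul_eq_one.mp h2)

theorem card_map_fix :
    Nat.card ((Q.subgroupOf (Subgroup.centralizer {x})).map (rho Ω x)) =
      Nat.card ↥(Q ⊓ Subgroup.centralizer {x}) := by
  refine (Nat.card_congr (Equiv.ofBijective
    (fun q : ↥(Q ⊓ Subgroup.centralizer {x}) =>
      (⟨rho Ω x ⟨q, (Subgroup.mem_inf.mp q.2).2⟩, ⟨q, (Subgroup.mem_inf.mp q.2).2⟩,
        (Subgroup.mem_inf.mp q.2).1, rfl⟩ : (Q.subgroupOf (Subgroup.centralizer {x})).map (rho Ω x)))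
    ⟨fun q q' h => ?_, fun g => ?_⟩)).symm
  · have h' := congrArg Subtype.val h
    have := congrArg Subtype.val (A.rho_Q_inj hx hxt (Subgroup.mem_inf.mp q.2).1 (Subgroup.mem_inf.mp q'.2).1 h')
    exact Subtype.ext this
  · obtain ⟨g, q, hq, rfl⟩ := g
    exact ⟨⟨q, hq, q.2⟩, rfl⟩

theorem card_invol_fix :
    Nat.card (involutionsIn (stabilizer (Cen Ω x) (A.pa hx) : Set (Cen Ω x))) + 1 =
      Nat.card ↥(Z ⊓ Subgroup.centralizer {x}) := by
  have hS' := A.setup_fix hx hxt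
  haveI : Finite (Cen Ω x) := Finite.of_surjective _ (rho_surjective x)
  let Z' : Set (Cen Ω x) := insert 1 (involutionsIn (stabilizer (Cen Ω x) (A.pa hx) : Set (Cen Ω x)))
  have h1 : Nat.card (involutionsIn (stabilizer (Cen Ω x) (A.pa hx) : Set (Cen Ω x))) + 1 = Nat.card Z' := by
    change (involutionsIn _).ncard + 1 = Z'.ncard
    rw [Set.ncard_insert_of_notMem (fun h => h.2.1 rfl) (Set.toFinite _)]
  rw [h1]
  refine (Nat.card_congr (Equiv.ofBijective
    (fun z : ↥(Z ⊓ Subgroup.centralizer {x}) =>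
      (⟨rho Ω x ⟨z, (Subgroup.mem_inf.mp z.2).2⟩, ?_⟩ : Z')) ⟨fun z z' h => ?_, fun g => ?_⟩)).symm
  · by_cases hz : rho Ω x ⟨z, (Subgroup.mem_inf.mp z.2).2⟩ = 1
    · exact Or.inl hz
    · refine Or.inr ⟨Subtype.ext ((A.mem_Z z).mp (Subgroup.mem_inf.mp z.2).1).1, hz, ?_⟩
      rw [← map_mul, ← map_one (rho Ω x)]
      exact congrArg _ (Subtype.ext (A.Z_sq (Subgroup.mem_inf.mp z.2).1))
  · have h' := congrArg Subtype.val h
    have := congrArg Subtype.val (A.rho_Q_inj hx hxt (A.Z_le_Q (Subgroup.mem_inf.mp z.2).1)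
      (A.Z_le_Q (Subgroup.mem_inf.mp z'.2).1) h')
    exact Subtype.ext this
  · obtain ⟨g, hg⟩ := g
    rcases hg with rfl | ⟨hga, -, hgg⟩
    · exact ⟨1, Subtype.ext (map_one (rho Ω x))⟩
    · haveI : Finite (Cen Ω x) := Finite.of_surjective _ (rho_surjective x)
      obtain ⟨q, hq, rfl⟩ := odd_mem_q hS' hga hgg
      rw [← map_mul, ← map_one (rho Ω x)] at hgg
      have hqq : (q : G) * q = 1 :=
        congrArg Subtype.val (A.rho_Q_inj hx hxt (q := q * q) (q' := 1) (mul_mem hq hq) (one_mem Q) hgg)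
      exact ⟨⟨q, A.mem_Z_of_Q hq hqq, q.2⟩, rfl⟩

include hW

/-- Galois correspondence: an element of `D` centralising `x` and `C_Z(x)` lies in `⟨x⟩`. -/
theorem mem_zpowers_of_centralizes {p : ℕ} (hp : p.Prime) (hxp : orderOf x = p) {d : G}
    (hd : d ∈ two G a t) (hZd : ∀ z ∈ Z ⊓ Subgroup.centralizer {x}, d * z = z * d) :
    d ∈ Subgroup.zpowers x := by
  obtain ⟨s, r, hs, hs1, hr, he⟩ := A.exists_base
  have hsx : s ∈ Z ⊓ Subgroup.centralizer {x} := ⟨hs,
    Subgroup.mem_centralizer_singleton_iff.mpr (A.centralizer_t_base hs hs1 hr he hx hxt).1.symm⟩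
  have hdV : d ∈ two G a t ⊓ Subgroup.centralizer {t} := by
    rw [(Cfsg.Agent.S1127.result A.setup).1 s r ⟨((A.mem_Z s).mp hs).1, hs1, A.Z_sq hs⟩ hr he]
    exact ⟨hd, Subgroup.mem_centralizer_singleton_iff.mpr (hZd s hsx)⟩
  obtain ⟨v0, hv0⟩ := A.exists_V_gen hW
  set H : Subgroup G := Subgroup.zpowers d ⊔ Subgroup.zpowers x
  have hH : H ≤ Subgroup.zpowers v0 := by
    rw [hv0]
    exact sup_le (Subgroup.zpowers_le.mpr hdV)
      (Subgroup.zpowers_le.mpr ⟨hx, Subgroup.mem_centralizer_singleton_iff.mpr hxt⟩)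
  haveI : IsCyclic H := Subgroup.isCyclic_of_le hH
  obtain ⟨w, hw⟩ := (Subgroup.isCyclic_iff_exists_zpowers_eq_top H).mp inferInstance
  have hwH : w ∈ H := hw ▸ Subgroup.mem_zpowers w
  have hwV : w ∈ two G a t ⊓ Subgroup.centralizer {t} := hv0 ▸ hH hwH
  have hxw : x ∈ Subgroup.zpowers w := hw.symm ▸ Subgroup.mem_sup_right (Subgroup.mem_zpowers x)
  have hfix : Z ⊓ Subgroup.centralizer {w} = Z ⊓ Subgroup.centralizer {x} := by
    ext z
    constructor
    · intro hz
      obtain ⟨hzZ, hzw⟩ := Subgroup.mem_inf.mp hz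
      obtain ⟨i, hi⟩ := Subgroup.mem_zpowers_iff.mp hxw
      refine Subgroup.mem_inf.mpr ⟨hzZ, Subgroup.mem_centralizer_singleton_iff.mpr ?_⟩
      rw [← hi]
      exact ((show Commute z w from Subgroup.mem_centralizer_singleton_iff.mp hzw).zpow_right i).eq
    · intro hz
      obtain ⟨hzZ, hzx⟩ := Subgroup.mem_inf.mp hz
      have hle : H ≤ Subgroup.centralizer {z} := sup_le
        (Subgroup.zpowers_le.mpr (Subgroup.mem_centralizer_singleton_iff.mpr (hZd z hz)))
        (Subgroup.zpowers_le.mpr (Subgroup.mem_centralizer_singleton_iff.mpr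
          (Subgroup.mem_centralizer_singleton_iff.mp hzx).symm))
      exact Subgroup.mem_inf.mpr ⟨hzZ, Subgroup.mem_centralizer_singleton_iff.mpr
        (Subgroup.mem_centralizer_singleton_iff.mp (hle hwH)).symm⟩
  have h1 := A.card_Z_eq_pow hW hwV.1 (Subgroup.mem_centralizer_singleton_iff.mp hwV.2)
  have h2 := A.card_Z_eq_pow hW hx hxt
  rw [hfix, h2, hxp] at h1
  have hone : 1 < Nat.card ↥(Z ⊓ Subgroup.centralizer {x}) := by
    rw [Finite.one_lt_card_iff_nontrivial]
    exact ⟨⟨⟨s, hsx⟩, 1, fun e => hs1 (congrArg Subtype.val e)⟩⟩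
  have h3 : p = orderOf w := Nat.pow_right_injective hone h1
  have hle : Subgroup.zpowers x ≤ Subgroup.zpowers w :=
    Subgroup.zpowers_le.mpr (hw.symm ▸ Subgroup.mem_sup_right (Subgroup.mem_zpowers x))
  rw [Subgroup.eq_of_le_of_card_ge hle (by rw [Nat.card_zpowers, Nat.card_zpowers, hxp, h3]), hw]
  exact Subgroup.mem_sup_left (Subgroup.mem_zpowers d)

theorem rho_ker {p : ℕ} (hp : p.Prime) (hxp : orderOf x = p)
    {g : Subgroup.centralizer ({x} : Set G)} :
    rho Ω x g = 1 ↔ (g : G) ∈ Subgroup.zpowers x := by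
  rw [rho_eq_one_iff]
  constructor
  · intro h
    obtain ⟨hxa, hxta⟩ := A.fix_a hx
    have hgD : (g : G) ∈ two G a t := (mem_two A.setup).mpr ⟨h a hxa, h _ hxta⟩
    refine A.mem_zpowers_of_centralizes hW hx hxt hp hxp hgD fun z hz => ?_
    obtain ⟨hzZ, hzx⟩ := Subgroup.mem_inf.mp hz
    have hzx' := Subgroup.mem_centralizer_singleton_iff.mp hzx
    have hfixz : (g : G) • z • t • a = z • t • a := h _ (by rw [smul_smul, ← hzx', mul_smul, hxta])
    have h1 : (g : G) * z * (g : G)⁻¹ = z := by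
      have hza : z • t • a ≠ a := fun e => ta_ne A.setup (by
        have h0 : z • a = a := ((A.mem_Z z).mp hzZ).1
        exact smul_left_cancel z (e.trans h0.symm))
      refine (exists_q A.setup hza).unique (y₁ := (g : G) * z * (g : G)⁻¹) (y₂ := z)
        ⟨A.conj_Q hgD (A.Z_le_Q hzZ), ?_⟩ ⟨A.Z_le_Q hzZ, rfl⟩
      rw [mul_smul, mul_smul, inv_smul_eq_iff.mpr (h _ hxta).symm, hfixz]
    calc (g : G) * z = (g : G) * z * (g : G)⁻¹ * g := by group
      _ = z * g := by rw [h1]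
  · rintro h b hb
    obtain ⟨i, hi⟩ := Subgroup.mem_zpowers_iff.mp h
    rw [← hi]
    exact (zpow_mem (show x ∈ stabilizer G b from hb) i : x ^ i ∈ stabilizer G b)

theorem card_cen {p : ℕ} (hp : p.Prime) (hxp : orderOf x = p) :
    Nat.card (Cen Ω x) * p = Nat.card (Subgroup.centralizer ({x} : Set G)) := by
  have hk : (rho Ω x).ker = (Subgroup.zpowers x).subgroupOf (Subgroup.centralizer {x}) := by
    ext g; exact A.rho_ker hW hx hxt hp hxp
  have h1 := Subgroup.card_mul_index (rho Ω x).ker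
  rw [Subgroup.index_ker, MonoidHom.range_eq_top.mpr (rho_surjective x), Subgroup.card_top, hk,
    Nat.card_congr (Subgroup.subgroupOfEquivOfLe (Subgroup.zpowers_le.mpr
      (Subgroup.mem_centralizer_singleton_iff.mpr rfl))).toEquiv, Nat.card_zpowers, hxp, mul_comm] at h1
  exact h1

theorem kernelW_fix {p : ℕ} (hp : p.Prime) (hxp : orderOf x = p) :
    kernelW (Cen Ω x) (A.pa hx) (tC Ω hxt) = ⊥ := by
  haveI : Finite (Cen Ω x) := Finite.of_surjective _ (rho_surjective x)
  have hS' := A.setup_fix hx hxt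
  refine (Subgroup.eq_bot_iff_forall _).mpr fun g hg => ?_
  obtain ⟨d, rfl⟩ := rho_surjective x g
  have hd : (d : G) ∈ two G a t := (A.mem_two_fix hx hxt).mp (mem_kernelW.mp hg).1
  refine (A.rho_ker hW hx hxt hp hxp).mpr (A.mem_zpowers_of_centralizes hW hx hxt hp hxp hd fun z hz => ?_)
  obtain ⟨hzZ, hzx⟩ := Subgroup.mem_inf.mp hz
  by_cases hz1 : z = 1
  · subst hz1; simp
  have hne : rho Ω x ⟨z, hzx⟩ ≠ 1 := fun e => hz1
    (congrArg Subtype.val (A.rho_Q_inj hx hxt (q := ⟨z, hzx⟩) (q' := 1) (A.Z_le_Q hzZ) (one_mem Q)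
      (e.trans (map_one _).symm)))
  have hI : rho Ω x ⟨z, hzx⟩ ∈ involutionsIn (stabilizer (Cen Ω x) (A.pa hx) : Set (Cen Ω x)) :=
    ⟨Subtype.ext ((A.mem_Z z).mp hzZ).1, hne, by
      rw [← map_mul, ← map_one (rho Ω x)]; exact congrArg _ (Subtype.ext (A.Z_sq hzZ))⟩
  have hc := kernelW_commute hS' hg hI
  have h1 : rho Ω x (d * ⟨z, hzx⟩ * d⁻¹) = rho Ω x ⟨z, hzx⟩ := by
    rw [map_mul, map_mul, map_inv, hc, mul_inv_cancel_right]
  have h2 := congrArg Subtype.val (A.rho_Q_inj hx hxt (q := d * ⟨z, hzx⟩ * d⁻¹) (q' := ⟨z, hzx⟩)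
    (A.conj_Q hd (A.Z_le_Q hzZ)) (A.Z_le_Q hzZ) h1)
  calc (d : G) * z = (d : G) * z * (d : G)⁻¹ * d := by group
    _ = z * d := by rw [show (d : G) * z * (d : G)⁻¹ = z from h2]

end Data

end CfsgLib.RankOne.Small
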