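import Mathlib
import Cfsg.Agent.Lib.RankOne.Small.Simple
import Cfsg.Agent.Lib.RankOne.Small.Abelian
import Cfsg.Agent.Lib.RankOne.Small.Average
import Cfsg.Agent.Lib.RankOne.Small.Fixed
import Cfsg.Agent.Lib.Perm.ZGroup.SuzukiUnique.Classify
import Cfsg.Agent.S1137
import Cfsg.Agent.S1138

/-!
# The possible orders of `Q` when `W = 1`, and congruences modulo the order of an element of `V`
-/

set_option autoImplicit false
set_option linter.style.haveILetI false

open Cfsg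

namespace CfsgLib.RankOne.Small.Data

open MulAction

variable {G Ω : Type*} [Group G] [Finite G] [MulAction G Ω] [FaithfulSMul G Ω] {a : Ω} {t : G}
  {Q Z K : Subgroup G} (A : Data a t Q Z K)

include A

omit [FaithfulSMul G Ω] in
theorem card_Z_invol :
    Nat.card Z = Nat.card (involutionsIn (stabilizer G a : Set G)) + 1 := by
  rw [A.card_Z, ← card_inverted A.setup]
  congr 1
  exact Nat.card_congr (Equiv.subtypeEquivRight fun x => A.mem_K x)

/-- In the Zassenhaus case the kernel has order `q` or `q²`. -/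
theorem card_of_frame (hF : Frame a t Q Q K) (hQ2 : IsPGroup 2 Q) :
    Nat.card Q = Nat.card Z ∨ Nat.card Q = Nat.card Z ^ 2 := by
  classical
  haveI := finite_space A.setup
  letI := Fintype.ofFinite Ω
  haveI : Fact (Nat.Prime 2) := ⟨Nat.prime_two⟩
  haveI := A.isSimple_span hF
  obtain ⟨⟨S, hSF⟩⟩ := A.zsetup_span hF
  have hH : Nat.card S.H = Nat.card K := by
    refine Nat.card_congr (Equiv.ofBijective
      (fun g : S.H => (⟨((g : span t Q K) : G), A.span_two hF (g : span t Q K).2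
        ((mem_two A.setup).mpr ⟨g.2.1, g.2.2⟩)⟩ : K)) ⟨fun g g' h => ?_, fun k => ?_⟩)
    · have h' := congrArg Subtype.val h
      exact Subtype.ext (Subtype.ext h')
    · exact ⟨⟨⟨k, right_le_span k.2⟩, ((mem_two A.setup).mp (A.le_two k.2)).1,
        ((mem_two A.setup).mp (A.le_two k.2)).2⟩, rfl⟩
  have h2F : IsPGroup 2 S.F := by
    obtain ⟨n, hn⟩ := hQ2.exists_card_eq
    exact IsPGroup.of_card (n := n) (hSF.trans hn)
  by_cases hab : IsMulCommutative S.F
  · rcases S.simple_abelian hab with ⟨p, f, L, _, _, hp, hp2, -, hΩ, -⟩ | ⟨-, hcard, -, -⟩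
    · exfalso
      obtain ⟨n, hn⟩ := h2F.exists_card_eq
      have h1 := S.card_F
      have h4 := S.two_le_F
      have he : p ^ f = 2 ^ n := by omega
      have hf : f ≠ 0 := by rintro rfl; rw [pow_zero] at he; omega
      exact hp2 ((Nat.prime_dvd_prime_iff_eq hp Nat.prime_two).mp
        (hp.dvd_of_dvd_pow (he ▸ dvd_pow_self p hf)))
    · left
      have := S.two_le_F
      rw [A.card_Z]; omega
  · right
    obtain ⟨m, -, -, h1, h2⟩ := CfsgLib.Perm.ZGroup.Setup.IsTwoKernel.suzuki_params (S := S) ⟨h2F, hab⟩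
    rw [← hSF, h2, A.card_Z, ← hH, h1]

omit [FaithfulSMul G Ω] in
theorem center_eq (hsuz : IsSuzukiTwoGroup Q) : Subgroup.center Q = Z.subgroupOf Q := by
  obtain ⟨h1, h2⟩ := Cfsg.Agent.S1137.result hsuz
  ext x
  rw [Subgroup.mem_subgroupOf]
  refine ⟨fun h => A.mem_Z_of_Q x.2 (congrArg Subtype.val (h2 x h)), fun h => ?_⟩
  exact Subgroup.mem_center_iff.mpr fun y => Subtype.ext ((A.central _ h).2 y y.2).symm

omit [FaithfulSMul G Ω] in
theorem card_center (hsuz : IsSuzukiTwoGroup Q) : Nat.card (Subgroup.center Q) = Nat.card Z := by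
  rw [A.center_eq hsuz]
  exact Nat.card_congr (Subgroup.subgroupOfEquivOfLe A.Z_le_Q).toEquiv

/-- `|Q|` is `q`, `q²` or `q³` when `W = 1`. -/
theorem card_cases (hW : kernelW G a t = ⊥)
    (h2 : ∃ x y : G, x ≠ 1 ∧ y ≠ 1 ∧ x ≠ y ∧ x * x = 1 ∧ y * y = 1 ∧ x * y = y * x) :
    Nat.card Q = Nat.card Z ∨ Nat.card Q = Nat.card Z ^ 2 ∨
      (IsSuzukiTwoGroup Q ∧ Nat.card Q = Nat.card Z ^ 3) := by
  have hQ2 := isPGroup_Q A.setup h2
  rcases abelian_or_suzuki A.setup h2 with h | h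
  · have hF := A.frame_of_comm hW hQ2 fun x hx y hy =>
      congrArg Subtype.val (h.is_comm.comm (⟨x, hx⟩ : Q) ⟨y, hy⟩)
    rcases A.card_of_frame hF hQ2 with e | e
    · exact Or.inl e
    · exact Or.inr (Or.inl e)
  · rcases (Cfsg.Agent.S1138.result h).2.2.1 with e | e <;> rw [A.card_center h] at e
    · exact Or.inr (Or.inl e)
    · exact Or.inr (Or.inr ⟨h, e⟩)

/-- If `|Q| = q³` some prime divisor of `q³ + 1` divides `|V|`. -/
theorem exists_prime_V (hW : kernelW G a t = ⊥) (hQ2 : IsPGroup 2 Q)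
    (hcard : Nat.card Q = Nat.card Z ^ 3) :
    ∃ p : ℕ, p.Prime ∧ p ≠ 2 ∧ p ∣ Nat.card Z ^ 3 + 1 ∧ ¬ p ∣ Nat.card K ∧
      ∃ x ∈ two G a t, x * t = t * x ∧ orderOf x = p := by
  classical
  have hS := A.setup
  haveI := A.normalKD
  letI : CommGroup (DK a t K) :=
    { (inferInstance : Group (DK a t K)) with
      mul_comm := fun x y => by
        obtain ⟨d, rfl⟩ := QuotientGroup.mk_surjective x
        obtain ⟨e, rfl⟩ := QuotientGroup.mk_surjective y
        rw [← QuotientGroup.mk_mul, ← QuotientGroup.mk_mul, eq_comm, QuotientGroup.eq]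
        exact Subgroup.mem_subgroupOf.mpr (A.quot_comm hW d.2 e.2) }
  set χ : two G a t →* DK a t K := QuotientGroup.mk' (K.subgroupOf (two G a t))
  have hχ : ∀ k : two G a t, (k : G) ∈ K → χ k = 1 := fun k hk =>
    (QuotientGroup.eq_one_iff k).mpr (Subgroup.mem_subgroupOf.mpr hk)
  obtain ⟨u, hu, hu1, hne⟩ : ∃ u, u ∈ Q ∧ u ≠ 1 ∧ A.cls χ u ≠ 1 := by
    by_contra h
    push Not at h
    have hF := A.frame_of_mem fun u hu hu1 =>
      Subgroup.mem_subgroupOf.mp ((QuotientGroup.eq_one_iff _).mp (h u hu hu1))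
    have h2 : 2 ≤ Nat.card Z := by have := A.card_Z; have := A.two_le_K; omega
    rcases A.card_of_frame hF hQ2 with e | e <;> rw [hcard] at e
    · exact absurd e (Nat.ne_of_gt (lt_self_pow₀ (by omega) (by norm_num)))
    · exact absurd (Nat.pow_right_injective h2 e) (by norm_num)
  set o := orderOf (A.cls χ u)
  have ho1 : o ≠ 1 := fun e => hne (orderOf_eq_one_iff.mp e)
  have hp : o.minFac.Prime := Nat.minFac_prime ho1
  have hpD : o.minFac ∣ Nat.card (two G a t) :=
    (Nat.minFac_dvd o).trans (orderOf_dvd_of_pow_eq_one (A.cls_pow χ u))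
  have hpn : o.minFac ∣ Nat.card Z ^ 3 + 1 := hcard ▸
    (Nat.minFac_dvd o).trans (orderOf_dvd_of_pow_eq_one (A.cls_pow_card_succ χ hχ hu hu1))
  have hp2 : o.minFac ≠ 2 := fun e =>
    Nat.not_even_iff_odd.mpr hS.odd_card (even_iff_two_dvd.mpr (e ▸ hpD))
  have hpK : ¬ o.minFac ∣ Nat.card K := fun h => hp2 (by
    have h1 : ((Nat.card Z : ℕ) : ZMod o.minFac) = 1 := by
      rw [A.card_Z, Nat.cast_add, (ZMod.natCast_eq_zero_iff _ _).mpr h, Nat.cast_one, zero_add]
      
    have h2 : ((Nat.card Z ^ 3 + 1 : ℕ) : ZMod o.minFac) = 0 := (ZMod.natCast_eq_zero_iff _ _).mpr hpn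
    rw [Nat.cast_add, Nat.cast_pow, h1, one_pow, Nat.cast_one] at h2
    have h3 : ((2 : ℕ) : ZMod o.minFac) = 0 := by rw [← h2]; norm_num
    exact (Nat.prime_dvd_prime_iff_eq hp Nat.prime_two).mp ((ZMod.natCast_eq_zero_iff _ _).mp h3))
  refine ⟨o.minFac, hp, hp2, hpn, hpK, ?_⟩
  rw [card_split hS.mul_self hS.odd_card (fun x hx => conj_t_mem hS hx)] at hpD
  have hK : Nat.card (invertedBy (two G a t) t) = Nat.card K :=
    Nat.card_congr (Equiv.subtypeEquivRight fun x => (A.mem_K x).symm)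
  have hpV := (hp.dvd_mul.mp hpD).resolve_right (hK ▸ hpK)
  haveI := Fact.mk hp
  obtain ⟨x, hx⟩ := exists_prime_orderOf_dvd_card' o.minFac hpV
  exact ⟨x, (Subgroup.mem_inf.mp x.2).1,
    Subgroup.mem_centralizer_singleton_iff.mp (Subgroup.mem_inf.mp x.2).2,
    by rw [Subgroup.orderOf_coe, hx]⟩

omit A [FaithfulSMul G Ω] in
/-- A set normalised by an element of prime order `p`: count the centralised elements modulo `p`. -/
theorem ncard_modEq {p : ℕ} [hp : Fact p.Prime] {x : G} (hx : orderOf x = p) (S : Set G)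
    (hS : ∀ y ∈ S, x * y * x⁻¹ ∈ S) :
    S.ncard ≡ {y | y ∈ S ∧ x * y = y * x}.ncard [MOD p] := by
  let P := Subgroup.zpowers (ConjAct.toConjAct x)
  have hP : IsPGroup p P := IsPGroup.of_card (n := 1) (by
    rw [Nat.card_zpowers, pow_one, ← hx]
    exact (MulEquiv.orderOf_eq ConjAct.toConjAct x))
  have hinv : ∀ g : P, ∀ y ∈ S, (g : ConjAct G) • y ∈ S := by
    rintro ⟨g, hg⟩
    have hfin : IsOfFinOrder (ConjAct.toConjAct x) := orderOf_pos_iff.mp (by
      rw [show orderOf (ConjAct.toConjAct x) = p from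
        (MulEquiv.orderOf_eq ConjAct.toConjAct x).trans hx]
      exact hp.out.pos)
    obtain ⟨i, rfl⟩ := (Submonoid.mem_powers_iff _ _).mp (hfin.mem_powers_iff_mem_zpowers.mpr hg)
    induction i with
    | zero => intro y hy; simpa using hy
    | succ i ih =>
      intro y hy
      change ConjAct.toConjAct x ^ (i + 1) • y ∈ S
      rw [pow_succ', mul_smul, ConjAct.smul_def, ConjAct.ofConjAct_toConjAct]
      exact hS _ (ih (Subgroup.pow_mem _ (Subgroup.mem_zpowers _) i) y hy)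
  let act : SubMulAction P G := ⟨S, fun g y hy => hinv g y hy⟩
  have h := hP.card_modEq_card_fixedPoints act
  have e1 : Nat.card act = S.ncard := rfl
  have e2 : Nat.card (MulAction.fixedPoints P act) = {y | y ∈ S ∧ x * y = y * x}.ncard := by
    refine Nat.card_congr (Equiv.ofBijective
      (fun y => (⟨(y.1 : G), y.1.2, ?_⟩ : {y | y ∈ S ∧ x * y = y * x})) ⟨fun y y' h => ?_, fun y => ?_⟩)
    · have h1 := congrArg Subtype.val (y.2 ⟨_, Subgroup.mem_zpowers _⟩)
      change ConjAct.toConjAct x • (y.1 : G) = y.1 at h1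
      rw [ConjAct.smul_def, ConjAct.ofConjAct_toConjAct] at h1
      exact mul_inv_eq_iff_eq_mul.mp h1
    · have h' := congrArg Subtype.val h
      exact Subtype.ext (Subtype.ext h')
    · refine ⟨⟨⟨y, y.2.1⟩, fun g => Subtype.ext ?_⟩, rfl⟩
      have hstab : ConjAct.toConjAct x ∈ MulAction.stabilizer (ConjAct G) (y : G) := by
        rw [MulAction.mem_stabilizer_iff, ConjAct.smul_def, ConjAct.ofConjAct_toConjAct, y.2.2,
          mul_inv_cancel_right]
      exact (Subgroup.zpowers_le.mpr hstab) g.2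
  rw [e1, e2] at h
  exact h

/-- `x` fixes an element of `Q` outside `Z`. -/
theorem exists_fixed_not_mem (hW : kernelW G a t = ⊥) (hsuz : IsSuzukiTwoGroup Q)
    (hne : ¬ Q ≤ Z) {p : ℕ} [hp : Fact p.Prime] (hp2 : p ≠ 2) (hpK : ¬ p ∣ Nat.card K) {x : G}
    (hx : x ∈ two G a t) (hxt : x * t = t * x) (hxp : orderOf x = p) :
    ∃ y ∈ Q, y ∉ Z ∧ x * y = y * x := by
  classical
  have hS := A.setup
  obtain ⟨-, hcomm, -, -⟩ := Cfsg.Agent.S1138.result hsuz
  letI : CommGroup (Q ⧸ Subgroup.center Q) :=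
    { (inferInstance : Group (Q ⧸ Subgroup.center Q)) with
      mul_comm := fun y z => by
        obtain ⟨y, rfl⟩ := QuotientGroup.mk_surjective y
        obtain ⟨z, rfl⟩ := QuotientGroup.mk_surjective z
        rw [← QuotientGroup.mk_mul, ← QuotientGroup.mk_mul, QuotientGroup.eq,
          show (y * z)⁻¹ * (z * y) = z⁻¹ * y⁻¹ * z * y by group]
        exact hcomm z y }
  let cj : two G a t →* MulAut Q := MonoidHom.mk'
    (fun d =>
      { toFun := fun q => ⟨(d : G) * q * (d : G)⁻¹, A.conj_Q d.2 q.2⟩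
        invFun := fun q => ⟨(d : G)⁻¹ * q * (d : G)⁻¹⁻¹, A.conj_Q (inv_mem d.2) q.2⟩
        left_inv := fun q => Subtype.ext (by simp [mul_assoc])
        right_inv := fun q => Subtype.ext (by simp [mul_assoc])
        map_mul' := fun q q' => Subtype.ext (by simp [mul_assoc]) })
    (fun d e => MulEquiv.ext fun q => Subtype.ext (show ((d : G) * e) * q * ((d : G) * e)⁻¹ =
      (d : G) * ((e : G) * q * (e : G)⁻¹) * (d : G)⁻¹ by group))
  have hmap : ∀ f : MulAut Q, (Subgroup.center Q).map f.toMonoidHom = Subgroup.center Q := fun f =>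
    Subgroup.characteristic_iff_map_eq.mp inferInstance f
  let act : two G a t →* MulAut (Q ⧸ Subgroup.center Q) := MonoidHom.mk'
    (fun d => QuotientGroup.congr _ _ (cj d) (hmap _))
    (fun d e => MulEquiv.ext fun m => by
      obtain ⟨q, rfl⟩ := QuotientGroup.mk_surjective m
      change QuotientGroup.mk (cj (d * e) q) = QuotientGroup.mk (cj d (cj e q))
      rw [map_mul, MulAut.mul_apply])
  have hact : ∀ (d : two G a t) (q : Q), act d (QuotientGroup.mk q) = QuotientGroup.mk (cj d q) :=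
    fun d q => rfl
  -- the subgroup `[K, x]`
  have hKD := A.le_two
  haveI := A.cyclicK
  have hKc : ∀ y ∈ K, ∀ z ∈ K, y * z = z * y := fun y hy z hz =>
    congrArg Subtype.val (letI := IsCyclic.commGroup (α := K); mul_comm (⟨y, hy⟩ : K) ⟨z, hz⟩)
  let R : Subgroup (two G a t) :=
    { carrier := {y | ∃ k ∈ K, (y : G) = x * k * x⁻¹ * k⁻¹}
      one_mem' := ⟨1, one_mem _, by simp⟩
      mul_mem' := by
        rintro y z ⟨k, hk, hy⟩ ⟨l, hl, hz⟩
        refine ⟨k * l, mul_mem hk hl, ?_⟩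
        rw [Subgroup.coe_mul, hy, hz]
        calc x * k * x⁻¹ * k⁻¹ * (x * l * x⁻¹ * l⁻¹) = x * k * x⁻¹ * (k⁻¹ * (x * l * x⁻¹)) * l⁻¹ := by group
          _ = x * k * x⁻¹ * ((x * l * x⁻¹) * k⁻¹) * l⁻¹ := by
              rw [hKc _ (inv_mem hk) _ (A.normK x hx l hl)]
          _ = x * (k * l) * x⁻¹ * (k⁻¹ * l⁻¹) := by group
          _ = _ := by rw [hKc _ (inv_mem hk) _ (inv_mem hl), mul_inv_rev]
      inv_mem' := by
        rintro y ⟨k, hk, hy⟩
        refine ⟨k⁻¹, inv_mem hk, ?_⟩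
        rw [Subgroup.coe_inv, hy, show (x * k * x⁻¹ * k⁻¹)⁻¹ = k * (x * k⁻¹ * x⁻¹) by group,
          hKc _ hk _ (A.normK x hx _ (inv_mem hk)), inv_inv] }
  have hRK : ∀ y ∈ R, (y : G) ∈ K := by
    rintro y ⟨k, hk, hy⟩
    rw [hy]; exact mul_mem (A.normK x hx k hk) (inv_mem hk)
  have hxp' : x ^ p = 1 := hxp ▸ pow_orderOf_eq_one x
  have hR : R ≠ ⊥ := by
    intro h
    have hx1 : x ≠ 1 := fun e => hp.out.ne_one (by rw [← hxp, e, orderOf_one])
    refine hx1 ((Subgroup.eq_bot_iff_forall _).mp hW x (mem_kernelW.mpr ⟨hx, hxt.symm, fun k hk => ?_⟩))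
    have hkK := (A.mem_K k).mpr hk
    have h1 : (⟨x * k * x⁻¹ * k⁻¹, mul_mem (mul_mem (mul_mem hx (hKD hkK)) (inv_mem hx))
        (inv_mem (hKD hkK))⟩ : two G a t) ∈ R := ⟨k, hkK, rfl⟩
    rw [h, Subgroup.mem_bot] at h1
    have h2 : x * k * x⁻¹ * k⁻¹ = 1 := congrArg Subtype.val h1
    calc k * x = (x * k * x⁻¹ * k⁻¹) * k * x := by rw [h2, one_mul]
      _ = x * k := by group
  have hfree : ∀ y ∈ R, ∀ i : ℕ, 0 < i → i < p →
      (⟨x, hx⟩ : two G a t) ^ i * y * ((⟨x, hx⟩ : two G a t) ^ i)⁻¹ = y → y = 1 := by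
    intro y hy i hi hip h
    obtain ⟨k, hk, hyk⟩ := hy
    have hci : Commute (x ^ i) (y : G) := mul_inv_eq_iff_eq_mul.mp
      (show x ^ i * (y : G) * (x ^ i)⁻¹ = y from congrArg Subtype.val h)
    have hcx : Commute x (y : G) := by
      obtain ⟨j, hj⟩ : ∃ j : ℕ, x = (x ^ i) ^ j := by
        have hcop : (orderOf x).Coprime i := by
          rw [hxp]; exact (Nat.Prime.coprime_iff_not_dvd hp.out).mpr (Nat.not_dvd_of_pos_of_lt hi hip)
        obtain ⟨j, hj⟩ := exists_pow_eq_self_of_coprime hcop.symm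
        exact ⟨j, hj.symm⟩
      rw [hj]; exact hci.pow_left j
    have hpow : ∀ j : ℕ, x ^ j * k * (x ^ j)⁻¹ = (y : G) ^ j * k := by
      intro j
      induction j with
      | zero => simp
      | succ j ih =>
        calc x ^ (j + 1) * k * (x ^ (j + 1))⁻¹ = x * (x ^ j * k * (x ^ j)⁻¹) * x⁻¹ := by
              rw [pow_succ']; group
          _ = x * (y : G) ^ j * (k * x⁻¹) := by rw [ih]; group
          _ = (y : G) ^ j * (x * k * x⁻¹ * k⁻¹) * k := by rw [(hcx.pow_right j).eq]; group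
          _ = _ := by rw [← hyk, ← pow_succ]
    have h1 := hpow p
    rw [hxp', one_mul, inv_one, mul_one] at h1
    have h2 : (y : G) ^ p = 1 := right_eq_mul.mp h1
    have h3 : orderOf (y : G) ∣ Nat.card K := by
      have := orderOf_dvd_natCard (G := K) ⟨y, hRK y ⟨k, hk, hyk⟩⟩
      rwa [← Subgroup.orderOf_coe] at this
    exact Subtype.ext (orderOf_eq_one_iff.mp (Nat.eq_one_of_dvd_coprimes
      ((Nat.Prime.coprime_iff_not_dvd hp.out).mpr hpK) (orderOf_dvd_of_pow_eq_one h2) h3))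
  obtain ⟨y0, hy0, hy0Z⟩ := SetLike.not_le_iff_exists.mp hne
  obtain ⟨m, hm, hm1⟩ : ∃ m, act ⟨x, hx⟩ m = m ∧ m ≠ 1 := by
    by_contra hcon
    push Not at hcon
    refine hy0Z ?_
    have h1 := eq_one_of_no_fixed act R hR (fun y hy z hz => Subtype.ext (hKc _ (hRK y hy) _ (hRK z hz)))
      ⟨x, hx⟩ hp.out.pos (Subtype.ext hxp') (fun y hy => by
        obtain ⟨k, hk, hyk⟩ := hy
        refine ⟨x * k * x⁻¹, A.normK x hx k hk, ?_⟩
        change x * (y : G) * x⁻¹ = _
        rw [hyk]; group)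
      hfree (fun m hm => ?_) hcon ?_ (QuotientGroup.mk (⟨y0, hy0⟩ : Q))
    · rw [QuotientGroup.eq_one_iff, A.center_eq hsuz] at h1
      exact h1
    · obtain ⟨y, hy, hy1⟩ : ∃ y ∈ R, y ≠ 1 := by
        by_contra h
        push Not at h
        exact hR ((Subgroup.eq_bot_iff_forall _).mpr h)
      obtain ⟨q, rfl⟩ := QuotientGroup.mk_surjective m
      by_contra hq
      rw [QuotientGroup.eq_one_iff, A.center_eq hsuz] at hq
      have h2 := hm y hy
      rw [hact, eq_comm, QuotientGroup.eq, A.center_eq hsuz] at h2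
      refine hy1 (Subtype.ext (A.eq_one_of_conj_coset (hRK y hy) q.2 hq h2 ?_))
      change (y : G) * q * (y : G)⁻¹ = (q : G) * ((q : G)⁻¹ * ((y : G) * q * (y : G)⁻¹))
      group
    · have h1 : Nat.card R ∣ Nat.card (two G a t) := Subgroup.card_subgroup_dvd_card R
      obtain ⟨n, hn⟩ := (hsuz.2.1.to_quotient (Subgroup.center Q)).exists_card_eq (p := 2)
      rw [hn]
      exact ((Nat.coprime_two_left.mpr (Odd.of_dvd_nat hS.odd_card h1)).symm).pow_right n
  obtain ⟨q, rfl⟩ := QuotientGroup.mk_surjective m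
  rw [hact, eq_comm, QuotientGroup.eq, A.center_eq hsuz] at hm
  rw [Ne, QuotientGroup.eq_one_iff, A.center_eq hsuz] at hm1
  -- the coset `q Z`
  have hconj : x * q * x⁻¹ = (q : G) * ((q : G)⁻¹ * (x * q * x⁻¹)) := by group
  let S : Set G := {y | (q : G)⁻¹ * y ∈ Z}
  have hSinv : ∀ y ∈ S, x * y * x⁻¹ ∈ S := fun y hy => by
    change (q : G)⁻¹ * (x * y * x⁻¹) ∈ Z
    have : (q : G)⁻¹ * (x * y * x⁻¹) =
        ((q : G)⁻¹ * (x * q * x⁻¹)) * (x * ((q : G)⁻¹ * y) * x⁻¹) := by group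
    rw [this]; exact mul_mem hm (A.conj_Z hx hy)
  have hcardS : S.ncard = Nat.card Z := by
    rw [show Nat.card Z = (Z : Set G).ncard from rfl,
      show S = (fun z => (q : G) * z) '' (Z : Set G) from ?_, Set.ncard_image_of_injective _ (mul_right_injective _)]
    ext y
    exact ⟨fun h => ⟨_, h, mul_inv_cancel_left _ _⟩, fun ⟨z, hz, e⟩ => by
      rw [← e]; simpa [S] using hz⟩
  have hmod := ncard_modEq (p := p) hxp S hSinv
  obtain ⟨y, hyS, hxy⟩ : ∃ y, y ∈ S ∧ x * y = y * x := by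
    by_contra h
    have e : {y | y ∈ S ∧ x * y = y * x} = (∅ : Set G) :=
      Set.eq_empty_iff_forall_notMem.mpr fun y hy => h ⟨y, hy⟩
    rw [e, Set.ncard_empty, hcardS, Nat.modEq_zero_iff_dvd] at hmod
    obtain ⟨n, hn⟩ := A.isPGroup_Z.exists_card_eq (p := 2)
    rw [hn] at hmod
    exact hp2 ((Nat.prime_dvd_prime_iff_eq hp.out Nat.prime_two).mp (hp.out.dvd_of_dvd_pow hmod))
  refine ⟨y, ?_, fun hyZ => hm1 ?_, hxy⟩
  · have := mul_mem q.2 (A.Z_le_Q hyS)
    rwa [mul_inv_cancel_left] at this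
  · rw [Subgroup.mem_subgroupOf]
    have := mul_mem hyZ (inv_mem hyS)
    simpa [mul_assoc] using this

omit [FaithfulSMul G Ω] in
theorem card_inf_modEq {p : ℕ} [Fact p.Prime] {x : G} (hxp : orderOf x = p) (X : Subgroup G)
    (hX : ∀ y ∈ X, x * y * x⁻¹ ∈ X) :
    Nat.card X ≡ Nat.card ↥(X ⊓ Subgroup.centralizer {x}) [MOD p] := by
  have h := ncard_modEq (p := p) hxp (X : Set G) hX
  have e : {y | y ∈ (X : Set G) ∧ x * y = y * x} = ((X ⊓ Subgroup.centralizer {x} : Subgroup G) : Set G) := by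
    ext y
    simp only [Set.mem_setOf_eq, SetLike.mem_coe, Subgroup.mem_inf, Subgroup.mem_centralizer_singleton_iff,
      eq_comm (a := x * y)]
  rw [e] at h
  exact h

end CfsgLib.RankOne.Small.Data
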