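import Mathlib
import Cfsg.Agent.Lib.RankOne.Small.Cube
import Cfsg.Agent.Lib.Perm.ZassenhausNormal

/-!
# No set-up with `|Q| = 8³` and a fixed quaternion group

An element `x ∈ V` of order `3` with `|C_Q(x)| = 8` has a centraliser of order `216`, the group
induced on the nine fixed points being sharply two-transitive.  Sylow's theorem then gives the
preimage of the regular normal subgroup a normaliser which is too large.
-/

set_option autoImplicit false
set_option linter.style.haveILetI false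

open Cfsg

namespace CfsgLib.RankOne.Small.Data

open MulAction

universe u v

variable {G : Type u} {Ω : Type v} [Group G] [Finite G] [MulAction G Ω] [FaithfulSMul G Ω] {a : Ω}
  {t : G} {Q Z K : Subgroup G} (A : Data a t Q Z K) (hW : kernelW G a t = ⊥) {x : G}
  (hx : x ∈ two G a t) (hxt : x * t = t * x) (hxp : orderOf x = 3) (hZ : Nat.card Z = 8)

include A hW hx hxt hxp hZ

theorem card_Z_inf_two : Nat.card ↥(Z ⊓ Subgroup.centralizer {x}) = 2 := by
  have h := A.card_Z_eq_pow hW hx hxt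
  rw [hxp, hZ, show (8 : ℕ) = 2 ^ 3 by norm_num] at h
  exact (Nat.pow_left_injective (by norm_num) h).symm

/-- `D ∩ C(x) = ⟨x⟩`. -/
theorem mem_zpowers_of_two_commute {d : G} (hd : d ∈ two G a t) (hdx : d * x = x * d) :
    d ∈ Subgroup.zpowers x := by
  classical
  have hS := A.setup
  obtain ⟨v0, hv0⟩ := A.exists_V_gen hW
  have hxV : x ∈ Subgroup.zpowers v0 :=
    hv0.symm ▸ Subgroup.mem_inf.mpr ⟨hx, Subgroup.mem_centralizer_singleton_iff.mpr hxt⟩
  have hv0V : v0 ∈ two G a t ⊓ Subgroup.centralizer {t} := hv0 ▸ Subgroup.mem_zpowers v0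
  obtain ⟨i, hi⟩ := Subgroup.mem_zpowers_iff.mp hxV
  obtain ⟨⟨y, w⟩, ⟨hy, hw, rfl⟩, -⟩ :=
    split_odd hS.mul_self hS.odd_card (fun x hx => conj_t_mem hS hx) hd
  have hy' : y ∈ Subgroup.zpowers v0 := hv0.symm ▸ hy
  obtain ⟨j, hj⟩ := Subgroup.mem_zpowers_iff.mp hy'
  have hyx : y * x = x * y := by rw [← hi, ← hj, ← zpow_add, ← zpow_add, add_comm]
  have hwx : w * x = x * w := by
    have e : y * (w * x) = y * (x * w) := by rw [← mul_assoc, hdx, ← mul_assoc, ← mul_assoc, hyx]
    exact mul_left_cancel e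
  obtain ⟨s, r, hs, hs1, hr, he⟩ := A.exists_base
  have hsx : s ∈ Z ⊓ Subgroup.centralizer {x} := ⟨hs,
    Subgroup.mem_centralizer_singleton_iff.mpr (A.centralizer_t_base hs hs1 hr he hx hxt).1.symm⟩
  have hwK : w ∈ K := (A.mem_K w).mpr hw
  have hwd : w ∈ two G a t := A.le_two hwK
  have hsc : s * x = x * s := Subgroup.mem_centralizer_singleton_iff.mp (Subgroup.mem_inf.mp hsx).2
  have hws : w * s * w⁻¹ ∈ Z ⊓ Subgroup.centralizer {x} :=
    Subgroup.mem_inf.mpr ⟨A.conj_Z hwd hs, Subgroup.mem_centralizer_singleton_iff.mpr (by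
      have e : w⁻¹ * x = x * w⁻¹ := (Commute.inv_left (show Commute w x from hwx)).eq
      calc w * s * w⁻¹ * x = w * (s * x) * w⁻¹ := by rw [mul_assoc, e]; group
        _ = (w * x) * s * w⁻¹ := by rw [hsc]; group
        _ = x * (w * s * w⁻¹) := by rw [hwx]; group)⟩
  obtain ⟨b, c, hbc, hbcu⟩ := Nat.card_eq_two_iff.mp (A.card_Z_inf_two hW hx hxt hxp hZ)
  have huniq : ∀ z ∈ Z ⊓ Subgroup.centralizer {x}, z ≠ 1 → z = s := by
    intro z hz hz1
    have hm : ∀ e : ↥(Z ⊓ Subgroup.centralizer {x}), e = b ∨ e = c := fun e => by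
      have := hbcu.ge (Set.mem_univ e)
      simpa using this
    have h1 : (1 : ↥(Z ⊓ Subgroup.centralizer {x})) ≠ ⟨s, hsx⟩ := fun e => hs1 (congrArg Subtype.val e).symm
    have h2 : (1 : ↥(Z ⊓ Subgroup.centralizer {x})) ≠ ⟨z, hz⟩ := fun e => hz1 (congrArg Subtype.val e).symm
    refine congrArg Subtype.val (?_ : (⟨z, hz⟩ : ↥(Z ⊓ Subgroup.centralizer {x})) = ⟨s, hsx⟩)
    rcases hm 1 with e1 | e1 <;> rcases hm ⟨z, hz⟩ with e2 | e2 <;> rcases hm ⟨s, hsx⟩ with e3 | e3 <;>
      first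
        | exact e2.trans e3.symm
        | exact absurd (e1.trans e3.symm) h1
        | exact absurd (e1.trans e2.symm) h2
  have hws1 : w * s * w⁻¹ = s := huniq _ hws fun e => hs1 (conj_eq_one_iff.mp e)
  have hw1 : w = 1 := by
    by_contra h
    exact hs1 (A.fpf w hwK h s (A.Z_le_Q hs) (mul_inv_eq_iff_eq_mul.mp hws1))
  subst hw1
  have hv03 : orderOf v0 ∣ 3 := by
    obtain ⟨hv0D, hv0t⟩ := Subgroup.mem_inf.mp hv0V
    have h := A.card_Z_eq_pow hW hv0D (Subgroup.mem_centralizer_singleton_iff.mp hv0t)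
    rw [hZ, show (8 : ℕ) = 2 ^ 3 by norm_num] at h
    obtain ⟨j, -, hj⟩ := (Nat.dvd_prime_pow Nat.prime_two).mp
      (h ▸ dvd_pow_self _ (orderOf_pos v0).ne' : _ ∣ 2 ^ 3)
    rw [hj, ← pow_mul] at h
    exact Dvd.intro_left j (Nat.pow_right_injective le_rfl h).symm
  have hle : Subgroup.zpowers x ≤ Subgroup.zpowers v0 := Subgroup.zpowers_le.mpr hxV
  rw [Subgroup.eq_of_le_of_card_ge hle (by
    rw [Nat.card_zpowers, Nat.card_zpowers, hxp]; exact Nat.le_of_dvd (by norm_num) hv03), mul_one]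
  exact hy'

omit hZ in
/-- The contradiction. -/
theorem not_eight (hZ : Nat.card Z = 8) (hQ : Nat.card Q = 512)
    (hQ' : Nat.card ↥(Q ⊓ Subgroup.centralizer {x}) = 8) : False := by
  classical
  have hS := A.setup
  haveI : Fact (Nat.Prime 3) := ⟨Nat.prime_three⟩
  set C := Subgroup.centralizer ({x} : Set G)
  have hS' := A.setup_fix hx hxt
  haveI : Finite (Cen Ω x) := Finite.of_surjective _ (rho_surjective x)
  haveI := finite_space hS'
  have htwo : two (Cen Ω x) (A.pa hx) (tC Ω hxt) = ⊥ := by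
    refine (Subgroup.eq_bot_iff_forall _).mpr fun g hg => ?_
    obtain ⟨d, rfl⟩ := rho_surjective x g
    exact (A.rho_ker hW hx hxt Nat.prime_three hxp).mpr (A.mem_zpowers_of_two_commute hW hx hxt hxp hZ
      ((A.mem_two_fix hx hxt).mp hg) (Subgroup.mem_centralizer_singleton_iff.mp d.2))
  have hcard : Nat.card (Cen Ω x) = 72 := by
    rw [card_group hS', A.card_map_fix hx hxt, hQ', htwo, Subgroup.card_bot]
  have hC : Nat.card C = 216 := by rw [← A.card_cen hW hx hxt Nat.prime_three hxp, hcard]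
  have hG : Nat.card G = 5515776 := by
    have hK : Nat.card (invertedBy (two G a t) t) = 7 := by
      rw [Nat.card_congr (Equiv.subtypeEquivRight fun x => (A.mem_K x).symm)]
      have h := A.card_Z
      rw [hZ] at h
      change Nat.card K = 7
      omega
    have hV : two G a t ⊓ Subgroup.centralizer {t} = Subgroup.zpowers x := by
      refine le_antisymm (fun d hd => ?_) (Subgroup.zpowers_le.mpr
        (Subgroup.mem_inf.mpr ⟨hx, Subgroup.mem_centralizer_singleton_iff.mpr hxt⟩))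
      obtain ⟨hdD, hdt⟩ := Subgroup.mem_inf.mp hd
      obtain ⟨v0, hv0⟩ := A.exists_V_gen hW
      have h1 : d ∈ Subgroup.zpowers v0 := hv0.symm ▸ hd
      have h2 : x ∈ Subgroup.zpowers v0 :=
        hv0.symm ▸ Subgroup.mem_inf.mpr ⟨hx, Subgroup.mem_centralizer_singleton_iff.mpr hxt⟩
      obtain ⟨i, hi⟩ := Subgroup.mem_zpowers_iff.mp h1
      obtain ⟨j, hj⟩ := Subgroup.mem_zpowers_iff.mp h2
      exact A.mem_zpowers_of_two_commute hW hx hxt hxp hZ hdD
        (by rw [← hi, ← hj, ← zpow_add, ← zpow_add, add_comm])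
    rw [card_group hS, hQ, card_split hS.mul_self hS.odd_card (fun x hx => conj_t_mem hS hx), hV,
      Nat.card_zpowers, hxp, hK]
  -- the regular normal subgroup
  haveI := pretransitive hS'
  have hfree : ∀ g : Cen Ω x, ∀ b c : FixPt Ω x, b ≠ c → g • b = b → g • c = c → g = 1 := by
    intro g b c hbc hb hc
    obtain ⟨h, h1, h2⟩ := is_two_pretransitive_iff.mp hS'.two_transitive
      (ta_ne hS').symm hbc
    have hg : h⁻¹ * g * h ∈ two (Cen Ω x) (A.pa hx) (tC Ω hxt) := (mem_two hS').mpr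
      ⟨by rw [mul_smul, mul_smul, h1, hb, inv_smul_eq_iff, h1],
       by rw [mul_smul, mul_smul, h2, hc, inv_smul_eq_iff, h2]⟩
    rw [htwo, Subgroup.mem_bot] at hg
    calc g = h * (h⁻¹ * g * h) * h⁻¹ := by group
      _ = 1 := by rw [hg]; group
  obtain ⟨N, hNn, hN, hNt, hNs⟩ :=
    Perm.ZassenhausNormal.exists_kernel (Ω := FixPt Ω x) (A.pa hx) hfree
  have hNcard : Nat.card N = 9 := by
    rw [Nat.card_congr (Equiv.ofBijective (fun n : N => n • A.pa hx)
      ⟨fun n m h => Perm.Normal.regular_inj hNs h, fun b => hNt.exists_smul_eq _ b⟩),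
      card_space hS', A.card_map_fix hx hxt, hQ']
  have hE0 : Nat.card (N.comap (rho Ω x)) = 27 := by
    have h1 := Subgroup.card_mul_index (N.comap (rho Ω x))
    have h2 := Subgroup.card_mul_index N
    rw [Subgroup.index_comap_of_surjective N (rho_surjective x), hC] at h1
    rw [hNcard, hcard] at h2
    have : N.index = 8 := by omega
    rw [this] at h1
    omega
  set E : Subgroup G := (N.comap (rho Ω x)).map C.subtype
  have hEcard : Nat.card E = 27 := (Subgroup.card_map_of_injective C.subtype_injective).trans hE0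
  have hEC : E ≤ C := Subgroup.map_subtype_le _
  have hrho : ∀ e : C, (e : G) ∈ E → rho Ω x e ∈ N := by
    rintro e ⟨e', he', h⟩
    rwa [show e' = e from Subtype.ext h] at he'
  have hxE : x ∈ E := ⟨⟨x, Subgroup.mem_centralizer_singleton_iff.mpr rfl⟩, by
    change rho Ω x _ ∈ N
    rw [(A.rho_ker hW hx hxt Nat.prime_three hxp).mpr (Subgroup.mem_zpowers x)]
    exact one_mem N, rfl⟩
  have hCconj : ∀ g ∈ C, ∀ e ∈ E, g * e * g⁻¹ ∈ E := by
    rintro g hg e ⟨e', he', rfl⟩
    refine ⟨⟨g, hg⟩ * e' * ⟨g, hg⟩⁻¹, ?_, rfl⟩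
    change rho Ω x _ ∈ N
    rw [map_mul, map_mul, map_inv]
    exact hNn.conj_mem _ he' _
  set M := Subgroup.normalizer (E : Set G)
  have hCM : C ≤ M := fun g hg => Subgroup.mem_normalizer_iff.mpr fun e =>
    ⟨fun he => hCconj g hg e he, fun he => by
      have h := hCconj g⁻¹ (inv_mem hg) _ he
      rwa [show g⁻¹ * (g * e * g⁻¹) * g⁻¹⁻¹ = e by group] at h⟩
  have h81 : 81 ∣ Nat.card M := by
    have h := Sylow.prime_dvd_card_quotient_normalizer (p := 3) (n := 3) (G := G)
      (by rw [hG]; norm_num) (H := E) (by rw [hEcard]; norm_num)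
    rw [Subgroup.card_eq_card_quotient_mul_card_subgroup (E.comap M.subtype)]
    have e : Nat.card ↥(E.comap M.subtype) = 27 := by
      rw [← hEcard]
      exact Nat.card_congr (Subgroup.subgroupOfEquivOfLe (Subgroup.le_normalizer)).toEquiv
    rw [e]
    exact Nat.mul_dvd_mul h (dvd_refl 27)
  -- the orbit of `x`
  let C' : Subgroup M := C.subgroupOf M
  have hCx : ∀ m n : M, m⁻¹ * n ∈ C' → (m : G) * x * (m : G)⁻¹ = (n : G) * x * (n : G)⁻¹ := by
    intro m n h
    have h' : ((m : G)⁻¹ * n) * x = x * ((m : G)⁻¹ * n) :=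
      Subgroup.mem_centralizer_singleton_iff.mp h
    calc (m : G) * x * (m : G)⁻¹ = (m : G) * (x * ((m : G)⁻¹ * n)) * (n : G)⁻¹ := by group
      _ = (n : G) * x * (n : G)⁻¹ := by rw [← h']; group
  let F : M ⧸ C' → G := fun q => Quotient.liftOn' q (fun m => (m : G) * x * (m : G)⁻¹)
    fun m n h => hCx m n (QuotientGroup.leftRel_apply.mp h)
  have hFinj : Function.Injective F := by
    intro q q' h
    induction q using QuotientGroup.induction_on with | H m => ?_
    induction q' using QuotientGroup.induction_on with | H n => ?_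
    change (m : G) * x * (m : G)⁻¹ = (n : G) * x * (n : G)⁻¹ at h
    rw [QuotientGroup.eq]
    refine Subgroup.mem_centralizer_singleton_iff.mpr ?_
    change (m : G)⁻¹ * n * x = x * ((m : G)⁻¹ * n)
    calc (m : G)⁻¹ * n * x = (m : G)⁻¹ * ((n : G) * x * (n : G)⁻¹) * n := by group
      _ = _ := by rw [← h]; group
  set O : Set G := Set.range F
  have hOmem : ∀ y, y ∈ O ↔ ∃ m ∈ M, m * x * m⁻¹ = y := by
    intro y
    constructor
    · rintro ⟨q, rfl⟩
      induction q using QuotientGroup.induction_on with | H m => ?_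
      exact ⟨m, m.2, rfl⟩
    · rintro ⟨m, hm, rfl⟩
      exact ⟨QuotientGroup.mk (⟨m, hm⟩ : M), rfl⟩
  have hOcard : O.ncard * 216 = Nat.card M := by
    rw [Set.ncard_range_of_injective hFinj, ← hC, ← Nat.card_congr (Subgroup.subgroupOfEquivOfLe hCM).toEquiv,
      ← Subgroup.card_eq_card_quotient_mul_card_subgroup]
  have hOE : O ⊆ E := fun y hy => by
    obtain ⟨m, hm, rfl⟩ := (hOmem y).mp hy
    exact (Subgroup.mem_normalizer_iff.mp hm x).mp hxE
  -- the part outside `⟨x⟩`
  set S : Set G := O \ (Subgroup.zpowers x : Set G)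
  set Q' := Q ⊓ C
  have hcomm : ∀ q ∈ C, q * x = x * q := fun q hq => Subgroup.mem_centralizer_singleton_iff.mp hq
  have hSstab : ∀ q ∈ Q', ∀ y ∈ S, q * y * q⁻¹ ∈ S := by
    intro q hq y hy
    have hqC := (Subgroup.mem_inf.mp hq).2
    obtain ⟨m, hm, rfl⟩ := (hOmem y).mp hy.1
    refine ⟨(hOmem _).mpr ⟨q * m, mul_mem (hCM hqC) hm, by group⟩, fun h => hy.2 ?_⟩
    obtain ⟨i, hi⟩ := Subgroup.mem_zpowers_iff.mp h
    refine Subgroup.mem_zpowers_iff.mpr ⟨i, ?_⟩
    have hc : Commute q (x ^ i) := (show Commute q x from hcomm q hqC).zpow_right i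
    calc x ^ i = q⁻¹ * (q * x ^ i) := by group
      _ = m * x * m⁻¹ := by rw [hc.eq, hi]; group
  letI act : MulAction Q' S :=
    { smul := fun q y => ⟨(q : G) * y * (q : G)⁻¹, hSstab q q.2 y y.2⟩
      one_smul := fun y => Subtype.ext (show (1 : G) * y * (1 : G)⁻¹ = y by group)
      mul_smul := fun q r y => Subtype.ext (show ((q : G) * r) * y * ((q : G) * r)⁻¹ =
        (q : G) * ((r : G) * y * (r : G)⁻¹) * (q : G)⁻¹ by group) }
  have hfree' : ∀ y : S, MulAction.stabilizer Q' y = ⊥ := by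
    intro y
    refine (Subgroup.eq_bot_iff_forall _).mpr fun q hq => ?_
    obtain ⟨hqQ, hqC⟩ := Subgroup.mem_inf.mp q.2
    have h1 : (q : G) * y * (q : G)⁻¹ = y := congrArg Subtype.val (show q • y = y from hq)
    have hyE := hOE y.2.1
    let q' : C := ⟨q, hqC⟩
    let y' : C := ⟨y, hEC hyE⟩
    have hy1 : rho Ω x y' ≠ 1 := fun e => y.2.2 ((A.rho_ker hW hx hxt Nat.prime_three hxp).mp e)
    have hfp := ((hN _).mp (hrho y' hyE)).resolve_left hy1 (A.pa hx)
    have hqa : rho Ω x q' • A.pa hx = A.pa hx := Subtype.ext (hS.le hqQ)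
    have hcomm' : rho Ω x q' * rho Ω x y' = rho Ω x y' * rho Ω x q' := by
      rw [← map_mul, ← map_mul]
      exact congrArg _ (Subtype.ext (mul_inv_eq_iff_eq_mul.mp h1))
    have hq1 : rho Ω x q' = 1 := hfree _ _ _ hfp (by rw [← mul_smul, hcomm', mul_smul, hqa]) hqa
    have := A.rho_Q_inj hx hxt (q := q') (q' := 1) hqQ (one_mem Q) (hq1.trans (map_one _).symm)
    exact Subtype.ext (show (q : G) = 1 from congrArg (fun c : C => (c : G)) this)
  have h8 : 8 ∣ S.ncard := by
    rw [← Nat.card_coe_set_eq, Nat.card_congr (MulAction.selfEquivOrbitsQuotientProd hfree'),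
      Nat.card_prod, hQ']
    exact dvd_mul_left _ _
  have hS24 : S.ncard ≤ 24 := by
    have hxs : (Subgroup.zpowers x : Set G) ⊆ E := Subgroup.zpowers_le.mpr hxE
    refine (Set.ncard_le_ncard (Set.sdiff_subset_sdiff_left hOE) (Set.toFinite _)).trans ?_
    rw [Set.ncard_diff hxs, ← Nat.card_coe_set_eq, ← Nat.card_coe_set_eq]
    change Nat.card E - Nat.card (Subgroup.zpowers x) ≤ 24
    rw [hEcard, Nat.card_zpowers, hxp]
  have hint : 1 ≤ (O ∩ (Subgroup.zpowers x : Set G)).ncard ∧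
      (O ∩ (Subgroup.zpowers x : Set G)).ncard ≤ 2 := by
    refine ⟨(Set.ncard_pos (Set.toFinite _)).mpr
      ⟨x, (hOmem x).mpr ⟨1, one_mem M, by group⟩, Subgroup.mem_zpowers x⟩, ?_⟩
    refine (Set.ncard_le_ncard (t := {x, x ^ 2}) (fun y hy => ?_) (Set.toFinite _)).trans
      ((Set.ncard_insert_le _ _).trans (by rw [Set.ncard_singleton]))
    obtain ⟨i, hi, rfl⟩ : ∃ i < 3, x ^ i = y := by
      obtain ⟨i, hi⟩ := mem_powers_iff_mem_zpowers.mpr hy.2
      exact ⟨i % 3, Nat.mod_lt _ (by norm_num), by rw [← hxp, pow_mod_orderOf]; exact hi⟩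
    interval_cases i
    · exfalso
      obtain ⟨m, -, hm⟩ := (hOmem _).mp hy.1
      rw [pow_zero] at hm
      have : x = 1 := conj_eq_one_iff.mp hm
      rw [this, orderOf_one] at hxp
      omega
    · exact Or.inl (pow_one x)
    · exact Or.inr rfl
  have hsum : (O ∩ (Subgroup.zpowers x : Set G)).ncard + S.ncard = O.ncard :=
    Set.ncard_inter_add_ncard_diff_eq_ncard _ _ (Set.toFinite _)
  have hd : Nat.card M ∣ 5515776 := hG ▸ Subgroup.card_subgroup_dvd_card M
  rw [← hOcard] at hd h81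
  have hd' : O.ncard ∣ 25536 := Nat.dvd_of_mul_dvd_mul_right (by norm_num : 0 < 216) (by simpa using hd)
  obtain ⟨j, hj⟩ := h8
  obtain ⟨h1, h2⟩ := hint
  have hj3 : j ≤ 3 := by omega
  generalize hiN : (O ∩ (Subgroup.zpowers x : Set G)).ncard = i at h1 h2 hsum
  rw [← hsum, hj] at hd' h81
  interval_cases j <;> interval_cases i <;> revert h81 hd' <;> decide

end CfsgLib.RankOne.Small.Data
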