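import Mathlib
import Cfsg.Agent.Lib.RankOne.Small.Eight
import Cfsg.Agent.Lib.FrobRealize.Quaternion

/-!
# With `W = 1` the kernel cannot have order `q³`

Induction on the order of the group: an element `x ∈ V` of prime order dividing `q³ + 1` induces
on its fixed points a smaller set-up of the same kind, unless it fixes exactly one involution at
`a`, when `q = 8`.
-/

set_option autoImplicit false
set_option linter.style.haveILetI false

open Cfsg

namespace CfsgLib.RankOne.Small.Data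

open MulAction

universe u v

variable {G : Type u} {Ω : Type v} [Group G] [Finite G] [MulAction G Ω] [FaithfulSMul G Ω] {a : Ω}
  {t : G} {Q Z K : Subgroup G}

theorem cubic_step
    (IH : ∀ (G' : Type v) [Group G'] [Finite G'] (Ω' : Type v) [MulAction G' Ω'] [FaithfulSMul G' Ω']
      (a' : Ω') (t' : G') (Q' Z' K' : Subgroup G'), Nat.card G' < Nat.card G →
      Data a' t' Q' Z' K' → kernelW G' a' t' = ⊥ → IsSuzukiTwoGroup Q' →
      Nat.card Q' = Nat.card Z' ^ 3 → False)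
    (A : Data a t Q Z K) (hW : kernelW G a t = ⊥) (hsuz : IsSuzukiTwoGroup Q)
    (hcard : Nat.card Q = Nat.card Z ^ 3) : False := by
  classical
  have hS := A.setup
  obtain ⟨p, hp, hp2, hpn, hpK, x, hx, hxt, hxp⟩ := A.exists_prime_V hW hsuz.2.1 hcard
  haveI := Fact.mk hp
  set C := Subgroup.centralizer ({x} : Set G)
  have hq4 : 3 ≤ Nat.card Z := by have := A.card_Z; have := A.two_le_K; omega
  have hne : ¬ Q ≤ Z := fun h => by
    have h1 := Subgroup.card_dvd_of_le h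
    rw [hcard] at h1
    have h2 := Nat.le_of_dvd (by omega) h1
    have h3 : Nat.card Z ^ 1 < Nat.card Z ^ 3 := Nat.pow_lt_pow_right (by omega) (by norm_num)
    rw [pow_one] at h3
    omega
  obtain ⟨y, hyQ, hyZ, hxy⟩ := A.exists_fixed_not_mem hW hsuz hne hp2 hpK hx hxt hxp
  have hyC : y ∈ Q ⊓ C := Subgroup.mem_inf.mpr ⟨hyQ, Subgroup.mem_centralizer_singleton_iff.mpr hxy.symm⟩
  have hqpow : Nat.card Z = Nat.card ↥(Z ⊓ C) ^ p := hxp ▸ A.card_Z_eq_pow hW hx hxt
  have hq : ((Nat.card Z : ℕ) : ZMod p) = (Nat.card ↥(Z ⊓ C) : ℕ) := by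
    rw [hqpow, Nat.cast_pow, ZMod.pow_card]
  have hQmod : ((Nat.card Q : ℕ) : ZMod p) = (Nat.card ↥(Q ⊓ C) : ℕ) :=
    (ZMod.natCast_eq_natCast_iff _ _ p).mpr (A.card_inf_modEq hxp Q fun y hy => A.conj_Q hx hy)
  have hne2 : ((2 : ℕ) : ZMod p) ≠ 0 := fun h =>
    hp2 ((Nat.prime_dvd_prime_iff_eq hp Nat.prime_two).mp ((ZMod.natCast_eq_zero_iff _ _).mp h))
  have hn0 : ((Nat.card Z ^ 3 + 1 : ℕ) : ZMod p) = 0 := (ZMod.natCast_eq_zero_iff _ _).mpr hpn
  have hle : Z ⊓ C ≤ Q ⊓ C := inf_le_inf_right _ A.Z_le_Q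
  have hne' : Nat.card ↥(Q ⊓ C) ≠ Nat.card ↥(Z ⊓ C) := fun h =>
    hyZ (Subgroup.mem_inf.mp (Subgroup.eq_of_le_of_card_ge hle h.le ▸ hyC)).1
  obtain ⟨n, hn⟩ := (A.isPGroup_Z.to_le (inf_le_left : Z ⊓ C ≤ Z)).exists_card_eq
  have hn1 : 1 ≤ n := by
    by_contra h
    obtain rfl : n = 0 := by omega
    rw [hqpow, hn, pow_zero, one_pow] at hq4
    omega
  rcases Nat.lt_or_ge 1 n with hn2 | hn2
  · -- at least two involutions fixed: induction
    have hS' := A.setup_fix hx hxt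
    haveI : Finite (Cen Ω x) := Finite.of_surjective _ (rho_surjective x)
    obtain ⟨z, z', hz1, hz'1, hzz⟩ : ∃ z z' : ↥(Z ⊓ C), z ≠ 1 ∧ z' ≠ 1 ∧ z ≠ z' := by
      by_contra h
      push Not at h
      have : Nat.card ↥(Z ⊓ C) ≤ 2 := by
        by_cases h1 : ∃ z : ↥(Z ⊓ C), z ≠ 1
        · obtain ⟨z, hz⟩ := h1
          refine (Nat.card_le_card_of_injective (fun w : ↥(Z ⊓ C) => decide (w = 1)) fun w w' e => ?_).trans
            (by simp)
          rw [decide_eq_decide] at e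
          by_cases hw : w = 1
          · rw [hw, e.mp hw]
          · rw [← h z w hz hw, ← h z w' hz fun hw' => hw (e.mpr hw')]
        · push Not at h1
          haveI : Subsingleton ↥(Z ⊓ C) := ⟨fun w w' => (h1 w).trans (h1 w').symm⟩
          rw [Nat.card_unique]; omega
      rw [hn] at this
      have : 2 ^ 2 ≤ 2 ^ n := Nat.pow_le_pow_right two_pos hn2
      omega
    let img : ↥(Z ⊓ C) → Cen Ω x := fun w => rho Ω x ⟨w, (Subgroup.mem_inf.mp w.2).2⟩
    have himg : ∀ w w', img w = img w' → w = w' := fun w w' e =>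
      Subtype.ext (congrArg (fun c : C => (c : G)) (A.rho_Q_inj hx hxt
        (A.Z_le_Q (Subgroup.mem_inf.mp w.2).1) (A.Z_le_Q (Subgroup.mem_inf.mp w'.2).1) e))
    have himg1 : img 1 = 1 := map_one (rho Ω x)
    have himgm : ∀ w w', img (w * w') = img w * img w' := fun w w' => by
      rw [← map_mul]; rfl
    have hsq : ∀ w : ↥(Z ⊓ C), w * w = 1 := fun w => Subtype.ext (A.Z_sq (Subgroup.mem_inf.mp w.2).1)
    have h2' : ∃ u w : Cen Ω x, u ≠ 1 ∧ w ≠ 1 ∧ u ≠ w ∧ u * u = 1 ∧ w * w = 1 ∧ u * w = w * u :=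
      ⟨img z, img z', fun e => hz1 (himg _ _ (e.trans himg1.symm)),
        fun e => hz'1 (himg _ _ (e.trans himg1.symm)), fun e => hzz (himg _ _ e),
        by rw [← himgm, hsq, himg1], by rw [← himgm, hsq, himg1],
        by rw [← himgm, ← himgm]; exact congrArg img (Subtype.ext
          ((A.central _ (Subgroup.mem_inf.mp z.2).1).2 _ (A.Z_le_Q (Subgroup.mem_inf.mp z'.2).1)))⟩
    obtain ⟨Z', K', A'⟩ := exists_data hS' h2'
    have hW' := A.kernelW_fix hW hx hxt hp hxp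
    have hZ' : Nat.card Z' = Nat.card ↥(Z ⊓ C) := A'.card_Z_invol.trans (A.card_invol_fix hx hxt)
    have hQ' := A.card_map_fix hx hxt
    rcases A'.card_cases hW' h2' with e | e | ⟨h', e⟩
    · rw [hQ', hZ'] at e
      exact hne' e
    · rw [hQ', hZ'] at e
      rw [hcard, e, Nat.cast_pow, Nat.cast_pow, hq] at hQmod
      rw [Nat.cast_add, Nat.cast_pow, hq, Nat.cast_one] at hn0
      have h0 : ((Nat.card ↥(Z ⊓ C) : ℕ) : ZMod p) ≠ 0 := fun h => by
        rw [h] at hn0; norm_num at hn0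
      have h1 : ((Nat.card ↥(Z ⊓ C) : ℕ) : ZMod p) = 1 := by
        have : ((Nat.card ↥(Z ⊓ C) : ℕ) : ZMod p) ^ 2 * (Nat.card ↥(Z ⊓ C) : ℕ) =
            ((Nat.card ↥(Z ⊓ C) : ℕ) : ZMod p) ^ 2 * 1 := by
          rw [← pow_succ, mul_one]; exact hQmod
        exact mul_left_cancel₀ (pow_ne_zero 2 h0) this
      rw [h1, one_pow] at hn0
      exact hne2 (by rw [← hn0]; norm_num)
    · refine IH (Cen Ω x) (FixPt Ω x) _ _ _ Z' K' ?_ A' hW' h' e
      have h1 := A.card_cen hW hx hxt hp hxp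
      have h2 := Nat.le_of_dvd Nat.card_pos (Subgroup.card_subgroup_dvd_card C)
      have h3 : 0 < Nat.card (Cen Ω x) := Nat.card_pos
      have := hp.two_le
      nlinarith
  · -- exactly one involution fixed
    obtain rfl : n = 1 := by omega
    rw [pow_one] at hn
    have hp3 : p = 3 := by
      rw [Nat.cast_add, Nat.cast_pow, hq, hn] at hn0
      have h9 : p ∣ 3 ^ 2 := by
        rw [← ZMod.natCast_eq_zero_iff]
        push_cast at hn0 ⊢
        rw [← hn0]; norm_num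
      exact (Nat.prime_dvd_prime_iff_eq hp Nat.prime_three).mp (hp.dvd_of_dvd_pow h9)
    subst hp3
    have hZ8 : Nat.card Z = 8 := by rw [hqpow, hn]; norm_num
    have hQ512 : Nat.card Q = 512 := by rw [hcard, hZ8]; norm_num
    have hmod : 512 ≡ Nat.card ↥(Q ⊓ C) [MOD 3] :=
      hQ512 ▸ A.card_inf_modEq hxp Q fun y hy => A.conj_Q hx hy
    refine A.not_eight hW hx hxt hxp hZ8 hQ512 ?_
    obtain ⟨-, -, -, hexp⟩ := Cfsg.Agent.S1138.result hsuz
    have h4 : ∀ w : ↥(Q ⊓ C), w ^ 4 = 1 := fun w => by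
      have h := Monoid.pow_exponent_eq_one (⟨w, (Subgroup.mem_inf.mp w.2).1⟩ : Q)
      rw [hexp] at h
      exact Subtype.ext (congrArg (fun c : Q => (c : G)) h)
    have hexp' : Monoid.exponent ↥(Q ⊓ C) ∣ 4 := Monoid.exponent_dvd_of_forall_pow_eq_one h4
    haveI : Fact (Nat.Prime 2) := ⟨Nat.prime_two⟩
    have hfew : Nat.card {w : ↥(Q ⊓ C) // w ^ 2 = 1} ≤ 2 := le_of_le_of_eq (b := Nat.card ↥(Z ⊓ C)) ?_ hn
    swap
    refine Nat.card_le_card_of_injective
      (fun w => (⟨(w.1 : G), Subgroup.mem_inf.mpr ⟨A.mem_Z_of_Q (Subgroup.mem_inf.mp w.1.2).1 (by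
        have h : (w.1 : G) ^ 2 = 1 := congrArg (fun c : ↥(Q ⊓ C) => (c : G)) w.2
        rwa [pow_two] at h), (Subgroup.mem_inf.mp w.1.2).2⟩⟩ : ↥(Z ⊓ C)))
      fun w w' e => Subtype.ext (Subtype.ext (congrArg Subtype.val e :))
    rcases FrobRealize.Quaternion.cyclic_or_quaternion (hsuz.2.1.to_le (inf_le_left : Q ⊓ C ≤ Q)) hfew
      with hc | ⟨-, m, ⟨e⟩⟩
    · haveI := hc
      rw [IsCyclic.exponent_eq_card] at hexp'
      have := Nat.le_of_dvd (by norm_num) hexp'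
      rw [hn] at hne'
      rw [Nat.ModEq] at hmod
      interval_cases hk : Nat.card ↥(Q ⊓ C) <;> omega
    · haveI : NeZero (2 ^ m) := ⟨by positivity⟩
      rw [Monoid.exponent_eq_of_mulEquiv e, QuaternionGroup.exponent] at hexp'
      have hm : 2 ^ m ∣ 2 :=
        (dvd_lcm_left _ _).trans ((mul_dvd_mul_iff_left (by norm_num : (2 : ℕ) ≠ 0)).mp hexp')
      have hm2 := Nat.le_of_dvd two_pos hm
      have hcQ : Nat.card ↥(Q ⊓ C) = 4 * 2 ^ m := by
        rw [Nat.card_congr e.toEquiv, Nat.card_eq_fintype_card, QuaternionGroup.card]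
      have hm0 : 0 < 2 ^ m := by positivity
      rw [hcQ] at hmod ⊢
      rw [Nat.ModEq] at hmod
      omega

theorem cubic_false_aux : ∀ (N : ℕ) (G : Type v) [Group G] [Finite G] (Ω : Type v) [MulAction G Ω]
    [FaithfulSMul G Ω] (a : Ω) (t : G) (Q Z K : Subgroup G), Nat.card G = N →
      Data a t Q Z K → kernelW G a t = ⊥ → IsSuzukiTwoGroup Q → Nat.card Q = Nat.card Z ^ 3 → False := by
  intro N
  induction N using Nat.strong_induction_on with
  | _ N ih =>
    intro G _ _ Ω _ _ a t Q Z K hN A hW hsuz hcard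
    exact cubic_step (fun G' _ _ Ω' _ _ a' t' Q' Z' K' hlt A' hW' h1 h2 =>
      ih _ (hN ▸ hlt) G' Ω' a' t' Q' Z' K' rfl A' hW' h1 h2) A hW hsuz hcard

/-- With `W = 1` the kernel does not have order `q³`. -/
theorem not_cubic (A : Data a t Q Z K) (hW : kernelW G a t = ⊥) (hsuz : IsSuzukiTwoGroup Q) :
    Nat.card Q ≠ Nat.card Z ^ 3 := fun hcard =>
  cubic_step (fun G' _ _ Ω' _ _ a' t' Q' Z' K' _ A' hW' h1 h2 =>
    cubic_false_aux _ G' Ω' a' t' Q' Z' K' rfl A' hW' h1 h2) A hW hsuz hcard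

end CfsgLib.RankOne.Small.Data
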